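import Cfsg.Agent.ClassRankThree.Contain
import Cfsg.Agent.TwoRegClass.Base

/-!
# Simple groups with four class sizes: vocabulary

Class sizes of nonidentity elements, the divisibility-minimal and divisibility-maximal ones, and the
class sizes in the centralizer of an element of prime power order.
-/

set_option autoImplicit false
set_option linter.style.haveILetI false
set_option linter.unusedSectionVars false

namespace Cfsg.Agent.ConjRankFour

open Subgroup
open GroupStructure3.ClassGraph (cs cs_conj cs_eq_one_iff cs_ne_zero cs_pow_dvd centralizer_mul_eq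
  exists_mul_of_coprime)
open GStructB.TwoSizes (cent IsL mem_cent self_mem_cent)
open ClassRankThree (not_center card_cent_mul_cs)

universe u

variable {G : Type u} [Group G]

/-- No class size is a proper multiple of `v`. -/
def IsMaxVal (G : Type u) [Group G] (v : ℕ) : Prop := ∀ g : G, g ≠ 1 → v ∣ cs g → cs g = v

/-- No class size of a nonidentity element is a proper divisor of `v`. -/
def IsMinVal (G : Type u) [Group G] (v : ℕ) : Prop := ∀ g : G, g ≠ 1 → cs g ∣ v → cs g = v

/-- The class sizes of the nonidentity elements which properly divide one another from `v`. -/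
def IsOnlyMult (G : Type u) [Group G] (v b : ℕ) : Prop :=
  ∀ g : G, g ≠ 1 → v ∣ cs g → cs g = v ∨ cs g = b

variable [Finite G]

theorem dvd_card (g : G) : cs g ∣ Nat.card G := index_dvd_card _

/-- Every class size lies over a minimal one. -/
theorem exists_min {g : G} (hg : g ≠ 1) : ∃ h : G, h ≠ 1 ∧ cs h ∣ cs g ∧ IsMinVal G (cs h) := by
  obtain ⟨h, ⟨hh, hhd⟩, hmin⟩ := Set.exists_min_image {h : G | h ≠ 1 ∧ cs h ∣ cs g} cs
    (Set.toFinite _) ⟨g, hg, dvd_rfl⟩
  refine ⟨h, hh, hhd, fun x hx hd => ?_⟩
  exact le_antisymm (Nat.le_of_dvd (Nat.pos_of_ne_zero (cs_ne_zero h)) hd)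
    (hmin x ⟨hx, hd.trans hhd⟩)

theorem le_card_cent {g h : G} (hle : cent g ≤ cent h) : cs h ∣ cs g := index_dvd_of_le hle

theorem cent_eq_of_eq {g h : G} (hle : cent g ≤ cent h) (he : cs g = cs h) : cent g = cent h := by
  refine eq_of_le_of_card_ge hle (le_of_eq ?_)
  have e1 := card_cent_mul_cs g
  have e2 := card_cent_mul_cs h
  rw [← e1, he] at e2
  exact Nat.eq_of_mul_eq_mul_right (Nat.pos_of_ne_zero (cs_ne_zero h)) e2

theorem ne_one_of_mul {a b : G} (ha : a ≠ 1) (hcop : (orderOf a).Coprime (orderOf b)) : a * b ≠ 1 :=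
  ClassRankThree.ne_one_of_mul ha hcop

theorem dvd_cs_mul {a b : G} (hc : Commute a b) (hcop : (orderOf a).Coprime (orderOf b)) :
    cs a ∣ cs (a * b) ∧ cs b ∣ cs (a * b) := by
  have e : cent (a * b) = cent a ⊓ cent b := centralizer_mul_eq hc hcop
  exact ⟨index_dvd_of_le (e.le.trans inf_le_left), index_dvd_of_le (e.le.trans inf_le_right)⟩

/-- An element commuting coprimely with one of maximal class size centralizes its centralizer. -/
theorem cent_le_of_max {z h : G} (hz : z ≠ 1) (hmax : IsMaxVal G (cs z)) (hc : Commute z h)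
    (hcop : (orderOf z).Coprime (orderOf h)) : cent z ≤ cent h := by
  have e : cent (z * h) = cent z ⊓ cent h := centralizer_mul_eq hc hcop
  have h1 := hmax _ (ne_one_of_mul hz hcop) (dvd_cs_mul hc hcop).1
  exact (cent_eq_of_eq (e.le.trans inf_le_left) h1).ge.trans (e.le.trans inf_le_right)

/-- A centralizer in a centralizer. -/
theorem cent_subgroupOf (H : Subgroup G) (x : H) : cent x = (cent (x : G)).subgroupOf H := by
  ext w
  rw [mem_subgroupOf, mem_cent, mem_cent]
  exact ⟨fun h => congrArg Subtype.val h.eq, fun h => Subtype.ext h.eq⟩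

/-- The class size of a coprime element in a centralizer. -/
theorem cs_mul_index {g : G} (x : cent g) (hcop : (orderOf g).Coprime (orderOf (x : G))) :
    cs g * (cent x).index = cs (g * x) := by
  have hc : Commute g (x : G) := (mem_cent.1 x.2).symm
  have e : cent (g * (x : G)) = cent g ⊓ cent (x : G) := centralizer_mul_eq hc hcop
  show (cent g).index * _ = (cent (g * (x : G))).index
  rw [e, cent_subgroupOf, ← relIndex_mul_index (inf_le_left : cent g ⊓ cent (x : G) ≤ cent g),
    inf_relIndex_left, mul_comm]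
  rfl

omit [Finite G] in
theorem coprime_of_not_dvd {t : G} (ht : IsL 2 t) {x : G} (hx : ¬ 2 ∣ orderOf x) :
    (orderOf t).Coprime (orderOf x) := by
  obtain ⟨k, hk⟩ := ht
  rw [hk]
  exact (Nat.prime_two.coprime_iff_not_dvd.2 hx).pow_left k

variable [IsSimpleGroup G] (hG : ¬ IsMulCommutative G)
include hG

theorem one_lt_cs {g : G} (hg : g ≠ 1) : 1 < cs g := by
  have h1 := cs_ne_zero g
  have h2 : cs g ≠ 1 := fun h => not_center hG hg (cs_eq_one_iff.1 h)
  omega

/-- Every prime misses a class size. -/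
theorem exists_not_dvd {p : ℕ} [Fact p.Prime] (hp : p ∣ Nat.card G) (P : Sylow p G) :
    ∃ z : G, z ∈ (P : Subgroup G) ∧ z ≠ 1 ∧ (P : Subgroup G) ≤ cent z ∧ ¬ p ∣ cs z :=
  ClassRankThree.exists_center_sylow hp P

/-- Elements of coprime class sizes do not commute. -/
theorem not_commute {u w : G} (hu : u ≠ 1) (hw : w ≠ 1) (hcop : (cs u).Coprime (cs w)) :
    ¬ Commute u w := by
  intro h
  have hle : normalClosure ({u} : Set G) ≤ cent w := by
    rw [normalClosure, closure_le]
    intro x hx
    obtain ⟨u', hu', hgx⟩ := Group.mem_conjugatesOfSet_iff.1 hx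
    rw [Set.mem_singleton_iff.1 hu'] at hgx
    obtain ⟨g, rfl⟩ := isConj_iff.1 hgx
    obtain ⟨p, hp, q, hq, rfl⟩ := exists_mul_of_coprime (A := cent u) (B := cent w) hcop g
    have e : p * q * u * (p * q)⁻¹ = p * u * p⁻¹ := by
      rw [mul_assoc p q u, (mem_cent.1 hq).eq]; group
    rw [SetLike.mem_coe, e]
    exact mul_mem (mul_mem hp (mem_cent.2 h)) (inv_mem hp)
  rcases (normalClosure_normal (s := ({u} : Set G))).eq_bot_or_eq_top with hb | ht
  · exact hu (mem_bot.1 (hb ▸ subset_normalClosure rfl))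
  · have hcw : cs w = 1 := index_eq_one.2 (top_le_iff.1 (ht ▸ hle))
    have := one_lt_cs hG hw
    omega

/-- A minimal class size is that of an element of prime power order. -/
theorem exists_primary {g : G} (hg : g ≠ 1) (hmin : IsMinVal G (cs g)) :
    ∃ l : ℕ, l.Prime ∧ ∃ x : G, IsL l x ∧ x ≠ 1 ∧ cs x = cs g := by
  obtain ⟨l, hl, k, hk, hkc⟩ := GStructB.TwoSizes.exists_primary (not_center hG hg)
  have h1 : g ^ k ≠ 1 := fun e => hkc (e ▸ one_mem _)
  exact ⟨l, hl, _, hk, h1, hmin _ h1 (cs_pow_dvd g k)⟩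

end Cfsg.Agent.ConjRankFour
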