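import Cfsg.Agent.ConjRankFour.Inv

/-!
# Four class sizes: reduction to two-nilpotent involution centralizers or abelian Sylow subgroups

The cases of four, three and one minimal class sizes, and the common step used when the involutions
have only two class sizes.
-/

set_option autoImplicit false
set_option linter.style.haveILetI false
set_option linter.unusedSectionVars false

namespace Cfsg.Agent.ConjRankFour

open Subgroup
open GroupStructure3.ClassGraph (cs cs_conj cs_eq_one_iff cs_ne_zero cs_pow_dvd)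
open GStructB.TwoSizes (cent IsL mem_cent self_mem_cent isL_of_mem)
open ClassRankThree (not_center exists_conj_centralising exists_center_sylow)

universe u

/-- The class sizes of the noncentral elements. -/
def vals (G : Type u) [Group G] : Set ℕ := {m : ℕ | ∃ x : G, x ∉ center G ∧ m = cs x}

/-- What has to be proved about the involutions. -/
def Reduced (G : Type u) [Group G] : Prop :=
  (∀ t : G, orderOf t = 2 → Cfsg.HasNormalPComplement 2 ↥(centralizer ({t} : Set G))) ∨
  ((∃ S : Sylow 2 G, IsMulCommutative ↥(S : Subgroup G)) ∧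
    ∀ t : G, orderOf t = 2 → Group.IsSolvable ↥(centralizer ({t} : Set G)))

variable {G : Type u} [Group G] [Finite G]

theorem isL_of_involution {t : G} (ht : orderOf t = 2) : IsL 2 t := ⟨1, by rw [ht, pow_one]⟩

theorem ne_one_of_involution {t : G} (ht : orderOf t = 2) : t ≠ 1 := by
  rintro rfl
  simp at ht

theorem cent_pow_le_of_eq {y : G} {n : ℕ} (h : cs (y ^ n) = cs y) : cent (y ^ n) ≤ cent y :=
  (cent_eq_of_eq (GStructB.TwoSizes.cent_le_pow y n) h.symm).ge

/-- A two-element of odd class size centralizes, up to conjugacy, any given two-element. -/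
theorem exists_commute_of_odd {t y : G} (ht : ¬ 2 ∣ cs t) (hy : IsL 2 y) (hy1 : y ≠ 1) :
    ∃ y' : G, IsL 2 y' ∧ y' ≠ 1 ∧ cs y' = cs y ∧ Commute y' t := by
  haveI : Fact (Nat.Prime 2) := ⟨Nat.prime_two⟩
  obtain ⟨k, hk⟩ := hy
  obtain ⟨P, hP⟩ := (GStructB.PElements.isPGroup_zpowers hk).exists_le_sylow
  obtain ⟨d, hd⟩ := exists_conj_centralising (g := t) ht P
  refine ⟨d⁻¹ * y * d, ?_, ?_, ?_, ?_⟩
  · have := GStructB.TwoSizes.isL_conj (⟨k, hk⟩ : IsL 2 y) d⁻¹
    rwa [inv_inv] at this
  · intro e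
    exact hy1 (by rw [show y = d * (d⁻¹ * y * d) * d⁻¹ by group, e, mul_one, mul_inv_cancel])
  · have := cs_conj d⁻¹ y
    rwa [inv_inv] at this
  · have h := GStructB.TwoSizes.conj_mem_cent (c := d⁻¹) (hd (hP (mem_zpowers y)))
    rw [inv_inv, show d⁻¹ * (d * t * d⁻¹) * d = t by group] at h
    exact mem_cent.1 h

/-- Two-elements with no other class size than their involution powers give an abelian Sylow
two-subgroup. -/
theorem abelian_of_eq (h : ∀ y : G, IsL 2 y → ∀ n : ℕ, orderOf (y ^ n) = 2 → cs (y ^ n) = cs y) :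
    ∃ S : Sylow 2 G, IsMulCommutative ↥(S : Subgroup G) := by
  haveI : Fact (Nat.Prime 2) := ⟨Nat.prime_two⟩
  obtain ⟨S⟩ : Nonempty (Sylow 2 G) := inferInstance
  have hc := commute_of_powers S.2 fun y hy n hn => cent_pow_le_of_eq (h y (isL_of_mem S.2 hy) n hn)
  exact ⟨S, ⟨⟨fun a b => Subtype.ext (hc a a.2 b b.2).eq⟩⟩⟩

theorem isSolvable_of_max_or_only {t : G} (ht : orderOf t = 2)
    (h : IsMaxVal G (cs t) ∨ ∃ b : ℕ, IsOnlyMult G (cs t) b) : Group.IsSolvable (cent t) := by
  rcases h with h | ⟨b, h⟩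
  · exact isSolvable_of_complement
      (complement_of_max (isL_of_involution ht) (ne_one_of_involution ht) h)
  · exact isSolvable_cent (isL_of_involution ht) (ne_one_of_involution ht) h

/-- The two-elements have class sizes `v` and `b`, with `v` odd. -/
theorem reduced_of_two_values {v b : ℕ} (hv : ¬ 2 ∣ v) (hvb : IsOnlyMult G v b)
    (hbmax : IsMaxVal G b) (htwo : ∀ y : G, IsL 2 y → y ≠ 1 → cs y = v ∨ cs y = b) : Reduced G := by
  by_cases hex : ∃ y : G, IsL 2 y ∧ y ≠ 1 ∧ cs y = b
  · obtain ⟨y, hy, hy1, hyb⟩ := hex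
    refine Or.inl fun t ht => ?_
    have htL := isL_of_involution ht
    have ht1 := ne_one_of_involution ht
    rcases htwo t htL ht1 with e | e
    · obtain ⟨y', hy', hy'1, hyv, hc⟩ :=
        exists_commute_of_odd (t := t) (by rw [e]; exact hv) hy hy1
      exact complement_of_only htL ht1 (by rw [e]; exact hvb) hbmax hy' hy'1 hc (hyv.trans hyb)
    · exact complement_of_max htL ht1 (by rw [e]; exact hbmax)
  · push Not at hex
    have hall : ∀ y : G, IsL 2 y → y ≠ 1 → cs y = v := fun y hy hy1 =>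
      (htwo y hy hy1).resolve_right (hex y hy hy1)
    refine Or.inr ⟨abelian_of_eq fun y hy n hn => ?_, fun t ht => isSolvable_of_max_or_only ht
      (Or.inr ⟨b, by rw [hall t (isL_of_involution ht) (ne_one_of_involution ht)]; exact hvb⟩)⟩
    have hy1 : y ≠ 1 := fun e => by rw [e, one_pow, orderOf_one] at hn; omega
    rw [hall _ (isL_of_involution hn) (ne_one_of_involution hn), hall y hy hy1]

/-- All class sizes are maximal. -/
theorem reduced_of_antichain (h : ∀ t : G, orderOf t = 2 → IsMaxVal G (cs t)) : Reduced G :=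
  Or.inl fun t ht => complement_of_max (isL_of_involution ht) (ne_one_of_involution ht) (h t ht)

variable [IsSimpleGroup G]

/-- One class size `b` is not minimal and the others are. -/
theorem reduced_of_one_top (hG : ¬ IsMulCommutative G) {b : ℕ}
    (hmin : ∀ g : G, g ≠ 1 → cs g ≠ b → IsMinVal G (cs g))
    (hw : ∃ w : G, w ≠ 1 ∧ cs w = b) : Reduced G := by
  haveI : Fact (Nat.Prime 2) := ⟨Nat.prime_two⟩
  obtain ⟨w, hw1, hwb⟩ := hw
  have hbmax : IsMaxVal G b := fun g hg hd => by
    by_contra hne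
    exact hne ((hmin g hg hne w hw1 (hwb ▸ hd)).symm.trans hwb)
  have honly : ∀ g : G, g ≠ 1 → cs g ≠ b → IsOnlyMult G (cs g) b := by
    intro g hg hne x hx hd
    by_cases hxb : cs x = b
    · exact Or.inr hxb
    · exact Or.inl ((hmin x hx hxb) g hg hd).symm
  have hsame : ∀ y : G, y ≠ 1 → cs y ≠ b → ∀ n : ℕ, y ^ n ≠ 1 → cs (y ^ n) = cs y := fun y hy hne n hn =>
    hmin y hy hne _ hn (cs_pow_dvd y n)
  by_cases hex : ∃ y : G, IsL 2 y ∧ y ≠ 1 ∧ cs y = b
  swap
  · push Not at hex
    refine Or.inr ⟨abelian_of_eq fun y hy n hn => ?_, fun t ht => isSolvable_of_max_or_only ht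
      (Or.inr ⟨b, honly t (ne_one_of_involution ht)
        (hex t (isL_of_involution ht) (ne_one_of_involution ht))⟩)⟩
    have hy1 : y ≠ 1 := fun e => by rw [e, one_pow, orderOf_one] at hn; omega
    exact hsame y hy1 (hex y hy hy1) n (ne_one_of_involution hn)
  obtain ⟨y₀, hy₀, hy₀1, hy₀b⟩ := hex
  refine Or.inl fun t ht => ?_
  have htL := isL_of_involution ht
  have ht1 := ne_one_of_involution ht
  by_cases htb : cs t = b
  · exact complement_of_max htL ht1 (htb ▸ hbmax)
  have htm := hmin t ht1 htb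
  have hto := honly t ht1 htb
  by_cases hvb : cs t ∣ b
  swap
  · refine complement_of_max htL ht1 fun g hg hd => ?_
    rcases hto g hg hd with e | e
    · exact e
    · exact absurd (e ▸ hd) hvb
  by_cases hy : ∃ y : G, IsL 2 y ∧ y ≠ 1 ∧ cs y = b ∧ Commute y t
  · obtain ⟨y, hyL, hy1, hyb, hyc⟩ := hy
    exact complement_of_only htL ht1 hto hbmax hyL hy1 hyc hyb
  push Not at hy
  have heven : 2 ∣ cs t := by
    by_contra hodd
    obtain ⟨y', hy', hy'1, hyv, hc⟩ := exists_commute_of_odd hodd hy₀ hy₀1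
    exact hy y' hy' hy'1 (hyv.trans hy₀b) hc
  -- an element centralizing a Sylow two-subgroup containing `y₀`
  obtain ⟨k, hk⟩ := hy₀
  obtain ⟨P, hP⟩ := (GStructB.PElements.isPGroup_zpowers hk).exists_le_sylow
  obtain ⟨z, -, hz1, hPz, hz⟩ :=
    exists_center_sylow (ClassRankThree.two_dvd_card hG) P
  have hzb : cs z ∣ b := hy₀b ▸ dvd_of_two hz ⟨k, hk⟩ hy₀1 (hy₀b.symm ▸ hbmax)
    (mem_cent.1 (hPz (hP (mem_zpowers y₀)))).symm
  obtain ⟨T⟩ : Nonempty (Sylow 2 (cent t)) := inferInstance
  have hTc := commute_of_powers (T := (T : Subgroup (cent t)).map (cent t).subtype) (T.2.map _)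
    fun y hy' n hn => by
      obtain ⟨x, hx, rfl⟩ := hy'
      have hy1 : (cent t).subtype x ≠ 1 := fun e => by rw [e, one_pow, orderOf_one] at hn; omega
      refine cent_pow_le_of_eq (hsame _ hy1 (fun e => hy _ (isL_of_mem (T.2.map _) ⟨x, hx, rfl⟩)
        hy1 e (mem_cent.1 x.2)) n (ne_one_of_involution hn))
  refine complement_of_even htL ht1 hz1 hto hvb htm heven hz hzb T fun a ha c hc => ?_
  exact Subtype.ext (hTc _ ⟨a, ha, rfl⟩ _ ⟨c, hc, rfl⟩).eq

end Cfsg.Agent.ConjRankFour
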