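import Cfsg.Agent.Lib.Suzuki.Partition
import Cfsg.Agent.Lib.Suzuki.Sylow
import Cfsg.Agent.Lib.SuzukiLocal.PlaneModel
import Mathlib

/-!
# The other simple groups have more than four non-central class sizes
-/

set_option autoImplicit false
set_option linter.style.haveILetI false

namespace Cfsg.Agent.ConjRankFour

open Subgroup

universe u

variable {G : Type u} [Group G] [Finite G]

/-- Five elements with distinct centraliser orders below the group order. -/
theorem not_four_of_five (x : Fin 5 → G)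
    (hlt : ∀ i, Nat.card (centralizer ({x i} : Set G)) < Nat.card G)
    (hinj : Function.Injective fun i => Nat.card (centralizer ({x i} : Set G))) :
    Set.ncard {m : ℕ | ∃ x : G, x ∉ Subgroup.center G ∧ m = (centralizer ({x} : Set G)).index} ≠ 4 := by
  intro h4
  set V := {m : ℕ | ∃ x : G, x ∉ Subgroup.center G ∧ m = (centralizer ({x} : Set G)).index}
  have hfin : V.Finite := Set.finite_of_ncard_ne_zero (by omega)
  have hsub : Set.range (fun i => (centralizer ({x i} : Set G)).index) ⊆ V := by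
    rintro _ ⟨i, rfl⟩
    refine ⟨x i, fun hc => ?_, rfl⟩
    have h1 : centralizer ({x i} : Set G) = ⊤ :=
      centralizer_eq_top_iff_subset.2 (Set.singleton_subset_iff.2 hc)
    exact absurd (hlt i) (by rw [h1, card_top]; omega)
  have hinj' : Function.Injective fun i => (centralizer ({x i} : Set G)).index := by
    intro i j hij
    refine hinj ?_
    have h1 := (centralizer ({x i} : Set G)).card_mul_index
    rw [← (centralizer ({x j} : Set G)).card_mul_index] at h1
    simp only at hij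
    rw [hij] at h1
    exact Nat.eq_of_mul_eq_mul_right (Nat.pos_of_ne_zero index_ne_zero_of_finite) h1
  have h5 := Set.ncard_le_ncard hsub hfin
  rw [← Set.image_univ, Set.ncard_image_of_injective _ hinj', Set.ncard_univ, Nat.card_eq_fintype_card,
    Fintype.card_fin] at h5
  omega

/-- Transport of `not_four_of_five` along an isomorphism. -/
theorem not_four_of_five' {M : Type*} [Group M] [Finite M] (e : G ≃* M) (x : Fin 5 → M)
    (hlt : ∀ i, Nat.card (centralizer ({x i} : Set M)) < Nat.card M)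
    (hinj : Function.Injective fun i => Nat.card (centralizer ({x i} : Set M))) :
    Set.ncard {m : ℕ | ∃ x : G, x ∉ Subgroup.center G ∧ m = (centralizer ({x} : Set G)).index} ≠ 4 := by
  have hc : ∀ g : M, Nat.card (centralizer ({e.symm g} : Set G)) =
      Nat.card (centralizer ({g} : Set M)) := fun g =>
    Nat.card_congr (Equiv.subtypeEquiv e.toEquiv fun a => by
      show a ∈ centralizer {e.symm g} ↔ e a ∈ centralizer {g}
      rw [mem_centralizer_singleton_iff, mem_centralizer_singleton_iff, ← e.injective.eq_iff, map_mul,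
        map_mul, e.apply_symm_apply])
  refine not_four_of_five (fun i => e.symm (x i)) (fun i => ?_) ?_
  · rw [hc, Nat.card_congr e.toEquiv]; exact hlt i
  · simp only [hc]; exact hinj

/-! ### The alternating group of degree seven -/

theorem alt_seven_types :
    ∃ x : Fin 5 → Equiv.Perm (Fin 7), (∀ i, Equiv.Perm.sign (x i) = 1) ∧ (x 0).cycleType = {2, 2} ∧
      (x 1).cycleType = {3} ∧ (x 2).cycleType = {3, 3} ∧ (x 3).cycleType = {5} ∧ (x 4).cycleType = {7} :=
  ⟨![Equiv.swap 0 1 * Equiv.swap 2 3, Equiv.swap 0 1 * Equiv.swap 1 2,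
      Equiv.swap 0 1 * Equiv.swap 1 2 * (Equiv.swap 3 4 * Equiv.swap 4 5),
      Equiv.swap 0 1 * Equiv.swap 1 2 * Equiv.swap 2 3 * Equiv.swap 3 4,
      Equiv.swap 0 1 * Equiv.swap 1 2 * Equiv.swap 2 3 * Equiv.swap 3 4 * Equiv.swap 4 5 * Equiv.swap 5 6],
    by decide +kernel, by decide +kernel, by decide +kernel, by decide +kernel, by decide +kernel,
    by decide +kernel⟩

theorem not_four_alt_seven (e : G ≃* alternatingGroup (Fin 7)) :
    Set.ncard {m : ℕ | ∃ x : G, x ∉ Subgroup.center G ∧ m = (centralizer ({x} : Set G)).index} ≠ 4 := by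
  obtain ⟨x, hs, h0, h1, h2, h3, h4⟩ := alt_seven_types
  let n : Fin 5 → ℕ := ![48, 72, 18, 10, 7]
  have hn : ∀ i, Nat.card (centralizer ({x i} : Set (Equiv.Perm (Fin 7)))) = n i := by
    intro i
    rw [Equiv.Perm.nat_card_centralizer]
    fin_cases i <;> simp only [Fin.zero_eta, Fin.mk_one, Fin.reduceFinMk] <;>
      rw [show _ = _ from ‹(x _).cycleType = _›] <;> decide
  have half : ∀ i, ∃ k, (k = 1 ∨ k = 2) ∧
      Nat.card (centralizer ({⟨x i, hs i⟩} : Set (alternatingGroup (Fin 7)))) * k = n i := by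
    intro i
    set C := centralizer ({x i} : Set (Equiv.Perm (Fin 7)))
    refine ⟨(alternatingGroup (Fin 7)).relIndex C, ?_, ?_⟩
    · have h : (alternatingGroup (Fin 7)).relIndex C ∣ 2 :=
        alternatingGroup.index_eq_two (α := Fin 7) ▸ relIndex_dvd_index_of_normal _ _
      exact (Nat.dvd_prime Nat.prime_two).1 h
    · rw [← hn i, ← ((alternatingGroup (Fin 7)).subgroupOf C).card_mul_index]
      congr 1
      refine Nat.card_congr
        { toFun := fun a => ⟨⟨a.1.1, mem_centralizer_singleton_iff.2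
            (congrArg Subtype.val (mem_centralizer_singleton_iff.1 a.2))⟩, a.1.2⟩
          invFun := fun a => ⟨⟨a.1.1, a.2⟩, mem_centralizer_singleton_iff.2
            (Subtype.ext (mem_centralizer_singleton_iff.1 a.1.2))⟩
          left_inv := fun a => rfl
          right_inv := fun a => rfl }
  refine not_four_of_five' e (fun i => ⟨x i, hs i⟩) (fun i => ?_) ?_
  · obtain ⟨k, hk, e1⟩ := half i
    rw [Nat.card_eq_fintype_card (α := alternatingGroup (Fin 7)), card_alternatingGroup, Fintype.card_fin,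
      show Nat.factorial 7 / 2 = 2520 from rfl]
    have : n i ≤ 72 := by fin_cases i <;> simp [n]
    rcases hk with rfl | rfl <;> omega
  · intro i j hij
    obtain ⟨a, ha, e1⟩ := half i
    obtain ⟨b, hb, e2⟩ := half j
    simp only at hij
    rw [hij] at e1
    fin_cases i <;> fin_cases j <;> simp [n] at e1 e2 ⊢ <;>
      rcases ha with rfl | rfl <;> rcases hb with rfl | rfl <;> omega

/-! ### The Suzuki groups -/

section Suzuki

open Cfsg.Agent.Suzuki

theorem not_four_suzuki (h : Cfsg.Lie.IsoSuzuki G) :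
    Set.ncard {m : ℕ | ∃ x : G, x ∉ Subgroup.center G ∧ m = (centralizer ({x} : Set G)).index} ≠ 4 := by
  obtain ⟨F, _, _, m, hm, hF, ⟨e₀⟩⟩ := h
  haveI : CharP F 2 := charTwo hF
  obtain ⟨f⟩ : Nonempty (Cfsg.Sz F m ≃* Cfsg.Lie.Sz F (2 ^ (m + 1))) := lieEquiv hm hF
  set φ : G ≃* Cfsg.Sz F m := e₀.trans f.symm
  obtain ⟨g, g', -, -, hg, hg', -⟩ := exists_two_tori hm hF
  set q := Fintype.card F with hq
  have hq' : q = 2 ^ (2 * m + 1) := hF
  have hr : 4 ≤ 2 ^ (m + 1) := by
    calc 4 = 2 ^ 2 := rfl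
      _ ≤ _ := Nat.pow_le_pow_right two_pos (by omega)
  have hrq : 2 * 2 ^ (m + 1) ≤ q := by
    rw [hq', ← pow_succ']
    exact Nat.pow_le_pow_right two_pos (by omega)
  obtain ⟨s, hs⟩ : ∃ s : Fˣ, s ≠ 1 := by
    haveI : Nontrivial Fˣ := Finite.one_lt_card_iff_nontrivial.1 (by
      rw [Nat.card_units, Nat.card_eq_fintype_card]; omega)
    exact exists_ne 1
  have hs' := centralizer_tor hm hF hs
  -- the two 2-elements
  have hz : centralizer ({tr hF (0 : F) 1} : Set (Cfsg.Sz F m)) = U hF := by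
    refine le_antisymm (centralizer_tr_le hm hF (Or.inr one_ne_zero)) fun u hu => ?_
    have h1 : ut hF (0 : F) 1 ∈ Subgroup.center (U (m := m) hF) := (mem_center_iff' hm hF).2 rfl
    exact mem_centralizer_singleton_iff.2
      (congrArg Subtype.val (Subgroup.mem_center_iff.1 h1 ⟨u, hu⟩))
  have hyle := centralizer_tr_le hm hF (a := (1 : F)) (b := 0) (Or.inl one_ne_zero)
  have hU : Nat.card (U (m := m) hF) = q ^ 2 := card_U hF
  have hylt : Nat.card (centralizer ({tr hF (1 : F) 0} : Set (Cfsg.Sz F m))) < q ^ 2 := by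
    rw [← hU]
    refine lt_of_le_of_ne (card_le_of_le hyle) fun e => ?_
    have h1 : centralizer ({tr hF (1 : F) 0} : Set (Cfsg.Sz F m)) = U hF :=
      eq_of_le_of_card_ge hyle e.ge
    refine one_ne_zero (α := F) ((mem_center_iff' hm hF (b := 0)).1 (Subgroup.mem_center_iff.2 fun u => ?_))
    have h2 : (u : Cfsg.Sz F m) ∈ centralizer ({tr hF (1 : F) 0} : Set (Cfsg.Sz F m)) := h1.ge u.2
    exact Subtype.ext (mem_centralizer_singleton_iff.1 h2)
  have hyev : 2 ∣ Nat.card (centralizer ({tr hF (1 : F) 0} : Set (Cfsg.Sz F m))) := by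
    have hne : Nat.card (centralizer ({tr hF (1 : F) 0} : Set (Cfsg.Sz F m))) ≠ 1 := fun e => by
      have h1 : tr hF (1 : F) 0 = (1 : Cfsg.Sz F m) :=
        mem_bot.1 (card_eq_one.1 e ▸ mem_centralizer_singleton_iff.2 rfl)
      have h2 : ut hF (1 : F) 0 = (1 : U (m := m) hF) := Subtype.ext h1
      rw [← ut_zero hF] at h2
      exact one_ne_zero (ut_injective hF h2).1
    have h3 := card_dvd_of_le hyle
    rw [hU, hq', ← pow_mul] at h3
    obtain ⟨k, -, hk⟩ := (Nat.dvd_prime_pow Nat.prime_two).1 h3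
    rw [hk] at hne ⊢
    exact dvd_pow_self 2 fun e => hne (by rw [e, pow_zero])
  let n : Fin 5 → ℕ := ![kPlus m, kMinus m, q - 1, q ^ 2,
    Nat.card (centralizer ({tr hF (1 : F) 0} : Set (Cfsg.Sz F m)))]
  have hn : ∀ i, Nat.card (centralizer ({(![g, g', tor hF s, tr hF 0 1, tr hF 1 0] :
      Fin 5 → Cfsg.Sz F m) i} : Set (Cfsg.Sz F m))) = n i := by
    intro i
    fin_cases i
    · exact hg
    · exact hg'
    · show Nat.card (centralizer ({tor hF s} : Set (Cfsg.Sz F m))) = q - 1
      rw [hs']; exact card_torusSubgroup hF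
    · show Nat.card (centralizer ({tr hF (0 : F) 1} : Set (Cfsg.Sz F m))) = q ^ 2
      rw [hz]; exact hU
    · rfl
  have hkP : kPlus m = q + 2 ^ (m + 1) + 1 := by rw [kPlus, hq']
  have hkM : kMinus m = q - 2 ^ (m + 1) + 1 := by rw [kMinus, hq']
  obtain ⟨r, hr2⟩ : 2 ∣ 2 ^ (m + 1) := dvd_pow_self 2 (by omega)
  obtain ⟨q2, hq2⟩ : 2 ∣ q := hq' ▸ dvd_pow_self 2 (by omega)
  have hqq : 2 * q + 2 ≤ q ^ 2 := by nlinarith
  obtain ⟨c, hc⟩ := hyev
  have hodd : q ^ 2 = 2 * (q2 * q) := by rw [pow_two]; nth_rewrite 1 [hq2]; ring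
  have hcard : q ^ 2 < Nat.card (Cfsg.Sz F m) := by
    rw [card_eq' hm hF]
    exact lt_of_lt_of_le (Nat.lt_succ_self _) (Nat.le_mul_of_pos_left _ Nat.card_pos)
  refine not_four_of_five' φ ![g, g', tor hF s, tr hF 0 1, tr hF 1 0] (fun i => ?_) ?_
  · rw [hn]
    refine lt_of_le_of_lt ?_ hcard
    fin_cases i <;> simp [n] <;> omega
  · intro i j hij
    simp only [hn] at hij
    fin_cases i <;> fin_cases j <;> simp [n] at hij ⊢ <;> omega

end Suzuki

/-! ### PSL(3, 4) -/

section Plane

open Matrix SuzukiLocal.PlaneModel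

variable {F : Type} [Field F] [Fintype F]

local notation "M3" => Matrix (Fin 3) (Fin 3) F
local notation "SL3" => Matrix.SpecialLinearGroup (Fin 3) F
local notation "P3" => Matrix.ProjectiveSpecialLinearGroup (Fin 3) F

/-- The regular unipotent element. -/
def regMat : M3 := !![1, 1, 0; 0, 1, 1; 0, 0, 1]

theorem plane_regular (h4 : Fintype.card F = 4) :
    ∃ y : P3, 2 ∣ Nat.card (centralizer ({y} : Set P3)) ∧ Nat.card (centralizer ({y} : Set P3)) ≤ 16 := by
  classical
  haveI : Fact (Nat.Prime 2) := ⟨Nat.prime_two⟩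
  have h20 : (2 : F) = 0 := CIT.Gen.two_eq_zero_four h4
  haveI : CharP F 2 := CharTwo.of_one_ne_zero_of_two_eq_zero one_ne_zero h20
  let Y : SL3 := ⟨regMat, by rw [det_fin_three]; simp [regMat]⟩
  let E : F × F → SL3 := fun p => ⟨!![1, p.1, p.2; 0, 1, p.1; 0, 0, 1], by rw [det_fin_three]; simp⟩
  set π := QuotientGroup.mk' (Subgroup.center SL3)
  have hsub : (centralizer ({π Y} : Set P3) : Set P3) ⊆ Set.range fun p => π (E p) := by
    intro c hc
    obtain ⟨g, rfl⟩ := QuotientGroup.mk'_surjective (Subgroup.center SL3) c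
    have hc' := mem_centralizer_singleton_iff.1 hc
    rw [← map_mul, ← map_mul] at hc'
    have hz := QuotientGroup.eq.1 hc'.symm
    obtain ⟨r, -, hr⟩ := Matrix.SpecialLinearGroup.mem_center_iff.1 hz
    have hEq : (g : M3) * (Y : M3) = r • ((Y : M3) * (g : M3)) := by
      have h1 : (((Y * g)⁻¹ * (g * Y) : SL3) : M3) = Matrix.scalar (Fin 3) r := hr.symm
      have h2 : ((Y * g) * ((Y * g)⁻¹ * (g * Y)) : SL3) = g * Y := mul_inv_cancel_left _ _
      calc (g : M3) * (Y : M3) = ((g * Y : SL3) : M3) := rfl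
        _ = (((Y * g) * ((Y * g)⁻¹ * (g * Y)) : SL3) : M3) := by rw [h2]
        _ = ((Y * g : SL3) : M3) * (((Y * g)⁻¹ * (g * Y) : SL3) : M3) := rfl
        _ = ((Y : M3) * (g : M3)) * Matrix.scalar (Fin 3) r := by rw [h1]; rfl
        _ = r • ((Y : M3) * (g : M3)) := by
          rw [Matrix.scalar_apply, ← Matrix.smul_one_eq_diagonal, Matrix.mul_smul, Matrix.mul_one]
    have e := fun i j => congrFun (congrFun hEq i) j
    simp only [Matrix.smul_apply, Matrix.mul_apply, Fin.sum_univ_three, smul_eq_mul] at e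
    have e00 := e 0 0
    have e10 := e 1 0
    have e20 := e 2 0
    have e01 := e 0 1
    have e11 := e 1 1
    have e02 := e 0 2
    have e12 := e 1 2
    simp [Y, regMat] at e00 e10 e20 e01 e11 e02 e12
    have hdet : (g : M3).det = 1 := g.2
    have hr1 : r = 1 := by
      by_contra hne
      have hne' : 1 - r ≠ 0 := sub_ne_zero.2 (Ne.symm hne)
      have a2 : (g : M3) 2 0 = 0 :=
        (mul_eq_zero.1 (show (1 - r) * (g : M3) 2 0 = 0 by linear_combination e20)).resolve_left hne'
      rw [a2] at e10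
      have a1 : (g : M3) 1 0 = 0 :=
        (mul_eq_zero.1 (show (1 - r) * (g : M3) 1 0 = 0 by linear_combination e10)).resolve_left hne'
      rw [a1] at e00
      have a0 : (g : M3) 0 0 = 0 :=
        (mul_eq_zero.1 (show (1 - r) * (g : M3) 0 0 = 0 by linear_combination e00)).resolve_left hne'
      rw [det_fin_three, a0, a1, a2] at hdet
      simp at hdet
    subst hr1
    have a10 : (g : M3) 1 0 = 0 := by linear_combination -e00
    have a20 : (g : M3) 2 0 = 0 := by linear_combination -e10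
    have a21 : (g : M3) 2 1 = 0 := by linear_combination -e11 + a10
    have a11 : (g : M3) 1 1 = (g : M3) 0 0 := by linear_combination -e01
    have a22 : (g : M3) 2 2 = (g : M3) 1 1 := by linear_combination -e12
    have a12 : (g : M3) 1 2 = (g : M3) 0 1 := by linear_combination -e02
    have hk3 : (g : M3) 0 0 ^ 3 = 1 := by
      rw [det_fin_three, a10, a20, a21, a22, a11] at hdet
      linear_combination hdet
    have hk0 : (g : M3) 0 0 ≠ 0 := fun h => by rw [h] at hk3; simp at hk3
    refine ⟨((g : M3) 0 1 * ((g : M3) 0 0)⁻¹, (g : M3) 0 2 * ((g : M3) 0 0)⁻¹), ?_⟩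
    refine QuotientGroup.eq.2 (Matrix.SpecialLinearGroup.mem_center_iff.2
      ⟨(g : M3) 0 0, by rw [Fintype.card_fin]; exact hk3, ?_⟩)
    have h3 : (g : M3) = ((E ((g : M3) 0 1 * ((g : M3) 0 0)⁻¹, (g : M3) 0 2 * ((g : M3) 0 0)⁻¹) : SL3) : M3) *
        Matrix.scalar (Fin 3) ((g : M3) 0 0) := by
      ext i j
      fin_cases i <;> fin_cases j <;>
        simp [E, Matrix.mul_apply, Fin.sum_univ_three, a10, a20, a21, a11, a22, a12, hk0]
    generalize hp : E ((g : M3) 0 1 * ((g : M3) 0 0)⁻¹, (g : M3) 0 2 * ((g : M3) 0 0)⁻¹) = P at h3 ⊢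
    show _ = ((P⁻¹ : SL3) : M3) * (g : M3)
    conv_rhs => rw [h3, ← mul_assoc,
      show ((P⁻¹ : SL3) : M3) * (P : M3) = ((1 : SL3) : M3) from congrArg Subtype.val (inv_mul_cancel P),
      show ((1 : SL3) : M3) = 1 from rfl, one_mul]
  have hle : Nat.card (centralizer ({π Y} : Set P3)) ≤ 16 := by
    refine le_trans (Nat.card_mono (Set.toFinite _) hsub) (le_trans (Finite.card_range_le _) ?_)
    rw [Nat.card_prod, Nat.card_eq_fintype_card, h4]
  have hne : π Y ≠ 1 := fun h => by
    obtain ⟨r, -, hr⟩ := Matrix.SpecialLinearGroup.mem_center_iff.1 ((QuotientGroup.eq_one_iff _).1 h)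
    have h01 := congrFun (congrFun hr 0) 1
    simp [Y, regMat] at h01
  have hpow : π Y ^ 4 = 1 := by
    rw [← map_pow, show Y ^ 4 = 1 from ?_, map_one]
    apply Subtype.ext
    simp only [pow_succ, pow_zero, one_mul]
    show (regMat : M3) * regMat * regMat * regMat = 1
    ext i j
    fin_cases i <;> fin_cases j <;>
      simp [regMat, Matrix.mul_apply, Fin.sum_univ_three] <;> (first | linear_combination h20 | linear_combination 2 * h20 | linear_combination 3 * h20)
  obtain ⟨k, -, hk⟩ := (Nat.dvd_prime_pow Nat.prime_two).1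
    (orderOf_dvd_of_pow_eq_one (show π Y ^ 2 ^ 2 = 1 from hpow))
  refine ⟨π Y, dvd_trans ?_ (Subgroup.orderOf_dvd_natCard _ (mem_centralizer_singleton_iff.2 rfl)), hle⟩
  rw [hk]
  exact dvd_pow_self 2 fun e0 => hne (orderOf_eq_one_iff.1 (by rw [hk, e0, pow_zero]))

set_option maxHeartbeats 1600000 in
theorem not_four_plane (F : Type) [Field F] [Fintype F] (hF : Fintype.card F = 4)
    (e : G ≃* Matrix.ProjectiveSpecialLinearGroup (Fin 3) F) :
    Set.ncard {m : ℕ | ∃ x : G, x ∉ Subgroup.center G ∧ m = (centralizer ({x} : Set G)).index} ≠ 4 := by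
  haveI : Fact (Nat.Prime 2) := ⟨Nat.prime_two⟩
  have hord := psl_order_mem (F := F) hF
  have hcard := L34Mult.card_psl (F := F) hF
  -- centralisers of elements of prime order are groups of one prime
  have hone : ∀ {p : ℕ} (_ : p.Prime) (b : Matrix.ProjectiveSpecialLinearGroup (Fin 3) F), orderOf b = p →
      ∀ r : ℕ, r.Prime → r ∣ Nat.card (centralizer ({b} : Set _)) → r = p := by
    intro p hp b hb r hr hd
    haveI := Fact.mk hr
    obtain ⟨a, ha⟩ := exists_prime_orderOf_dvd_card' r hd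
    by_contra hne
    have hcomm : Commute (a : Matrix.ProjectiveSpecialLinearGroup (Fin 3) F) b :=
      mem_centralizer_singleton_iff.1 a.2
    have hao : orderOf (a : Matrix.ProjectiveSpecialLinearGroup (Fin 3) F) = r :=
      (Subgroup.orderOf_coe a).trans ha
    have hmem := hord ((a : Matrix.ProjectiveSpecialLinearGroup (Fin 3) F) * b)
    rw [hcomm.orderOf_mul_eq_mul_orderOf_of_coprime
      (by rw [hao, hb]; exact (Nat.coprime_primes hr hp).2 hne), hao, hb] at hmem
    have hrb := hord (a : Matrix.ProjectiveSpecialLinearGroup (Fin 3) F)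
    have hpb := hord b
    rw [hao] at hrb
    rw [hb] at hpb
    simp only [List.mem_cons, List.not_mem_nil, or_false] at hmem hrb hpb
    have := hr.two_le
    have := hp.two_le
    rcases hrb with rfl | rfl | rfl | rfl | rfl | rfl <;>
      rcases hpb with rfl | rfl | rfl | rfl | rfl | rfl <;> omega
  obtain ⟨b5, h5⟩ := (haveI := Fact.mk (show Nat.Prime 5 by norm_num);
    exists_prime_orderOf_dvd_card' (G := Matrix.ProjectiveSpecialLinearGroup (Fin 3) F) 5 (by rw [hcard]; norm_num))
  obtain ⟨b7, h7⟩ := (haveI := Fact.mk (show Nat.Prime 7 by norm_num);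
    exists_prime_orderOf_dvd_card' (G := Matrix.ProjectiveSpecialLinearGroup (Fin 3) F) 7 (by rw [hcard]; norm_num))
  obtain ⟨b3, h3⟩ := (haveI := Fact.mk (show Nat.Prime 3 by norm_num);
    exists_prime_orderOf_dvd_card' (G := Matrix.ProjectiveSpecialLinearGroup (Fin 3) F) 3 (by rw [hcard]; norm_num))
  have c5 := psl_card_centralizer hF b5 (Or.inl h5)
  have c7 := psl_card_centralizer hF b7 (Or.inr h7)
  have c3 : 3 ∣ Nat.card (centralizer ({b3} : Set _)) ∧ ¬ 2 ∣ Nat.card (centralizer ({b3} : Set _)) :=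
    ⟨(dvd_of_eq h3.symm).trans (Subgroup.orderOf_dvd_natCard _ (mem_centralizer_singleton_iff.2 rfl)),
      fun h => absurd (hone (by norm_num) b3 h3 2 Nat.prime_two h) (by norm_num)⟩
  -- a central involution of a Sylow subgroup
  obtain ⟨P⟩ := (inferInstance : Nonempty (Sylow 2 (Matrix.ProjectiveSpecialLinearGroup (Fin 3) F)))
  have hPcard : 2 ^ 6 ∣ Nat.card P := P.pow_dvd_card_of_pow_dvd_card (by rw [hcard]; norm_num)
  haveI : Nontrivial P := Finite.one_lt_card_iff_nontrivial.1
    (lt_of_lt_of_le (by norm_num) (Nat.le_of_dvd Nat.card_pos hPcard))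
  haveI := IsPGroup.center_nontrivial P.isPGroup'
  obtain ⟨w, hw⟩ := exists_prime_orderOf_dvd_card' (G := Subgroup.center P) 2 (by
    obtain ⟨n, hn⟩ := IsPGroup.iff_card.1 (P.isPGroup'.to_subgroup (Subgroup.center P))
    rw [hn]
    exact dvd_pow_self 2 fun e0 => by
      rw [e0, pow_zero] at hn
      exact absurd hn (Finite.one_lt_card (α := Subgroup.center P)).ne')
  set z : Matrix.ProjectiveSpecialLinearGroup (Fin 3) F := w.1.1 with hzdef
  have hz : orderOf z = 2 := by rw [hzdef, Subgroup.orderOf_coe, Subgroup.orderOf_coe, hw]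
  have cz : 64 ≤ Nat.card (centralizer ({z} : Set _)) := by
    refine le_trans (Nat.le_of_dvd Nat.card_pos hPcard) (card_le_of_le fun a ha => ?_)
    exact mem_centralizer_singleton_iff.2 (congrArg Subtype.val (Subgroup.mem_center_iff.1 w.2 ⟨a, ha⟩))
  have cz2 : 2 ∣ Nat.card (centralizer ({z} : Set _)) ∧ ¬ 3 ∣ Nat.card (centralizer ({z} : Set _)) :=
    ⟨(dvd_of_eq hz.symm).trans (Subgroup.orderOf_dvd_natCard _ (mem_centralizer_singleton_iff.2 rfl)),
      fun h => absurd (hone Nat.prime_two z hz 3 (by norm_num) h) (by norm_num)⟩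
  obtain ⟨y, hy2, hy16⟩ := plane_regular (F := F) hF
  have hlt : ∀ b : Matrix.ProjectiveSpecialLinearGroup (Fin 3) F, ∀ r : ℕ,
      r ∣ 20160 → ¬ r ∣ Nat.card (centralizer ({b} : Set _)) →
      Nat.card (centralizer ({b} : Set _)) < Nat.card (Matrix.ProjectiveSpecialLinearGroup (Fin 3) F) :=
    fun b r hr hn => lt_of_le_of_ne (card_le_card_group _) fun e0 => hn (by rw [e0, hcard]; exact hr)
  refine not_four_of_five' e ![b5, b7, b3, z, y] (fun i => ?_) ?_
  · fin_cases i
    · show Nat.card (centralizer ({b5} : Set _)) < _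
      rw [c5, h5, hcard]; norm_num
    · show Nat.card (centralizer ({b7} : Set _)) < _
      rw [c7, h7, hcard]; norm_num
    · exact hlt b3 2 (by norm_num) c3.2
    · exact hlt z 3 (by norm_num) cz2.2
    · show Nat.card (centralizer ({y} : Set _)) < _
      rw [hcard]; omega
  · intro i j hij
    obtain ⟨c3a, c3b⟩ := c3
    obtain ⟨cza, czb⟩ := cz2
    fin_cases i <;> fin_cases j <;> simp [c5, c7, h5, h7] at hij ⊢ <;> omega

end Plane

end Cfsg.Agent.ConjRankFour
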