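import Cfsg.Agent.ConjRankFour.Cases
import Cfsg.Agent.ConjRankFour.Exclude
import Cfsg.Agent.S3188
import Cfsg.Agent.S3192
import Cfsg.Agent.S3214
import Cfsg.Agent.Lib.MinNonCA.ListFactsLinear

/-!
# Four class sizes: the group is `PSL₂` in odd characteristic
-/

set_option autoImplicit false
set_option linter.style.haveILetI false
set_option linter.unusedSectionVars false

namespace Cfsg.Agent.ConjRankFour

open Subgroup
open GroupStructure3.ClassGraph (cs)
open GStructB.TwoSizes (cent mem_cent)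

universe u

variable {G : Type u} [Group G] [Finite G] [IsSimpleGroup G]

/-- A group with four class sizes is not `PSL₂` in characteristic two. -/
theorem not_psl_even (h4 : (vals G).ncard = 4)
    (h : ∃ (m : ℕ) (F : Type) (_ : Field F) (_ : Fintype F), 2 ≤ m ∧ Fintype.card F = 2 ^ m ∧
      Nonempty (G ≃* Matrix.ProjectiveSpecialLinearGroup (Fin 2) F)) : False := by
  have h3 := ((Cfsg.Agent.S3192.result G).2 h).2.2
  have h4' : Set.ncard {m : ℕ | ∃ x : G, x ∉ Subgroup.center G ∧
      m = (Subgroup.centralizer ({x} : Set G)).index} = 4 := h4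
  omega

/-- The shape of the field. -/
theorem goal_of_psl (hG : ¬ IsMulCommutative G) (h4 : (vals G).ncard = 4) {F : Type} [Field F]
    [Fintype F] (h3 : 3 < Fintype.card F)
    (e : G ≃* Matrix.ProjectiveSpecialLinearGroup (Fin 2) F) :
    ∃ (F : Type) (_ : Field F) (_ : Fintype F), Odd (Fintype.card F) ∧ 7 ≤ Fintype.card F ∧
      Nonempty (G ≃* Matrix.ProjectiveSpecialLinearGroup (Fin 2) F) := by
  rcases Nat.even_or_odd (Fintype.card F) with hev | hodd
  · exfalso
    obtain ⟨p, hp⟩ := CharP.exists F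
    obtain ⟨n, hpp, hn⟩ := FiniteField.card F p
    have h2 : p = 2 := ((Nat.prime_dvd_prime_iff_eq Nat.prime_two hpp).1
      (Nat.prime_two.dvd_of_dvd_pow (hn ▸ hev.two_dvd))).symm
    subst h2
    refine not_psl_even h4 ⟨n, F, _, _, ?_, hn, ⟨e⟩⟩
    by_contra hlt
    have hn1 : (n : ℕ) = 1 := by have := n.pos; omega
    rw [hn, hn1] at h3
    omega
  by_cases h5 : Fintype.card F = 5
  · exfalso
    refine not_psl_even h4 (ClassRankThree.psl_of_abCent hG fun t ht a ha b hb => ?_)
    have hx : e t ≠ 1 := fun h => ne_one_of_involution ht (e.map_eq_one_iff.1 h)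
    have h := MinNonCA.psl_five h5 hx (e a) (e b)
      (by rw [← map_mul, ← map_mul, (mem_cent.1 ha).eq])
      (by rw [← map_mul, ← map_mul, (mem_cent.1 hb).eq])
    rw [← map_mul, ← map_mul] at h
    exact e.injective h
  obtain ⟨k, hk⟩ := hodd
  exact ⟨F, _, _, ⟨k, hk⟩, by omega, ⟨e⟩⟩

/-- The forward direction from the reduction. -/
theorem goal_of_reduced (hG : ¬ IsMulCommutative G) (h4 : (vals G).ncard = 4) (h : Reduced G) :
    ∃ (F : Type) (_ : Field F) (_ : Fintype F), Odd (Fintype.card F) ∧ 7 ≤ Fintype.card F ∧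
      Nonempty (G ≃* Matrix.ProjectiveSpecialLinearGroup (Fin 2) F) := by
  rcases h with hN | ⟨⟨S, hS⟩, hC⟩
  · rcases Cfsg.Agent.S3214.result hG hN with ⟨F, iF, iT, h3, ⟨e⟩⟩ | hsz | ⟨⟨e⟩⟩ | ⟨F, iF, iT, hF, ⟨e⟩⟩
    · exact goal_of_psl hG h4 h3 e
    · exact absurd h4 (not_four_suzuki hsz)
    · exact absurd h4 (not_four_alt_seven e)
    · exact absurd h4 (not_four_plane F hF e)
  rcases Cfsg.Agent.S3188.result S hS hC with hs | ⟨F, iF, iT, hq, N, hN, ⟨e⟩, -⟩
  · exact absurd hs (ClassRankThree.not_solvable hG)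
  have h3 : 3 < Fintype.card F := by
    rcases hq with ⟨-, h⟩ | ⟨n, hn, hc⟩
    · omega
    · rw [hc]; exact lt_of_lt_of_le (by norm_num : 3 < 2 ^ 2) (Nat.pow_le_pow_right two_pos hn)
  have hO : Cfsg.oddCore G = ⊥ := ZStar.Consequences.oddCore_eq_bot fun M hM hodd => by
    rcases hM.eq_bot_or_eq_top with hb | htop
    · exact hb
    · exfalso
      rw [htop, card_top] at hodd
      exact (Nat.not_even_iff_odd.2 hodd) (even_iff_two_dvd.2 (ClassRankThree.two_dvd_card hG))
  let φ : G ⧸ Cfsg.oddCore G ≃* G :=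
    (QuotientGroup.quotientMulEquivOfEq hO).trans QuotientGroup.quotientBot
  haveI := hN
  haveI : (N.map φ.toMonoidHom).Normal := hN.map _ φ.surjective
  haveI := Classical.Linear.isSimpleGroup_PSL_fin (F := F) (le_refl 2) fun _ => (by omega : 4 ≤ _)
  haveI : Nontrivial N := e.toEquiv.nontrivial
  rcases (inferInstance : (N.map φ.toMonoidHom).Normal).eq_bot_or_eq_top with hb | ht
  · exfalso
    obtain ⟨x, hx⟩ := exists_ne (1 : N)
    refine hx (Subtype.ext (φ.map_eq_one_iff.1 ?_))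
    exact mem_bot.1 (hb ▸ ⟨x, x.2, rfl⟩ : φ (x : G ⧸ Cfsg.oddCore G) ∈ (⊥ : Subgroup G))
  · refine goal_of_psl hG h4 h3 ?_
    exact ((Subgroup.topEquiv (G := G)).symm.trans
      ((MulEquiv.subgroupCongr ht.symm).trans
        (N.equivMapOfInjective φ.toMonoidHom φ.injective).symm)).trans e

end Cfsg.Agent.ConjRankFour
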