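import Cfsg.Agent.S0028
import Cfsg.Agent.GStructB.TwoSizes
import Cfsg.Agent.TwoRegClass.Base
import Cfsg.Agent.Solvable.Fitting
import Cfsg.Agent.Lib.Cores.Basic

/-!
# Solvable groups in which all odd elements have centralizers of one size

Let `y` be a two-element of the solvable group `C`, let `K` be the set of odd elements commuting
with `y`, and suppose that `K` is a subgroup central in the centralizer of `y`, whose order has the
odd parts of the common order of the centralizers of the noncentral odd elements. Then `C` has a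
normal two-complement: Thompson's `P × Q` lemma puts `K` into the Fitting subgroup, and an odd
element outside `K` is excluded by comparing two Sylow two-subgroups.
-/

set_option autoImplicit false
set_option linter.style.haveILetI false

namespace Cfsg.Agent.ConjRankFour

open Subgroup
open GStructB.TwoSizes (cent IsL mem_cent self_mem_cent lp exists_sylow_in card_le_lp isL_of_mem
  center_lt_lp full_of_lt exists_step coprime_of_isL conj_mem_cent isL_conj)

universe u

/-- An element of odd prime power order has odd order. -/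
theorem odd_of_isL {C : Type u} [Group C] {p : ℕ} (hp : p.Prime) (hp2 : p ≠ 2) {x : C}
    (hx : IsL p x) : ¬ 2 ∣ orderOf x := by
  obtain ⟨k, hk⟩ := hx
  rw [hk]
  intro h
  exact hp2 ((Nat.prime_dvd_prime_iff_eq Nat.prime_two hp).1 (Nat.prime_two.dvd_of_dvd_pow h)).symm

/-- A cyclic subgroup of prime power order. -/
theorem isPGroup_zpowers_of_isL {C : Type u} [Group C] {p : ℕ} {x : C} (hx : IsL p x) :
    IsPGroup p (zpowers x) := by
  obtain ⟨k, hk⟩ := hx
  exact GStructB.PElements.isPGroup_zpowers hk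

/-- The order of a cyclic group of prime power order is prime to any other prime. -/
theorem coprime_zpowers {C : Type u} [Group C] {p q : ℕ} (hp : p.Prime) (hq : q.Prime) (hne : p ≠ q)
    {x : C} (hx : IsL p x) : (Nat.card (zpowers x)).Coprime q := by
  obtain ⟨k, hk⟩ := hx
  rw [Nat.card_zpowers, hk]
  exact ((Nat.coprime_primes hp hq).2 hne).pow_left k

variable {C : Type u} [Group C] [Finite C]

/-- The hypotheses. -/
structure Data (y : C) (K : Subgroup C) : Prop where
  two : IsL 2 y
  odd : ∀ x ∈ K, ¬ 2 ∣ orderOf x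
  comm : ∀ x ∈ K, ∀ w, Commute w y → Commute x w
  le : ∀ x ∈ K, Commute x y
  mem : ∀ g, Commute g y → ¬ 2 ∣ orderOf g → g ∈ K
  size : ∀ g : C, g ∉ center C → ¬ 2 ∣ orderOf g → ∀ p : ℕ, p.Prime → p ≠ 2 →
    lp p (cent g) = lp p K
  sizeTwo : ∀ g g' : C, g ∉ center C → ¬ 2 ∣ orderOf g → g' ∉ center C → ¬ 2 ∣ orderOf g' →
    lp 2 (cent g) = lp 2 (cent g')

namespace Data

variable {y : C} {K : Subgroup C} (D : Data y K)
include D

omit [Finite C] in
theorem abelian {a b : C} (ha : a ∈ K) (hb : b ∈ K) : Commute a b := D.comm a ha b (D.le b hb)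

omit [Finite C] in
theorem central_mem {g : C} (hg : g ∈ center C) (ho : ¬ 2 ∣ orderOf g) : g ∈ K :=
  D.mem g (mem_center_iff.1 hg y).symm ho

/-- `K` centralises the two-core. -/
theorem two_core {x : C} (hx : x ∈ K) : zpowers x ≤ centralizer (Cfsg.pCore 2 C : Set C) := by
  haveI : Fact (Nat.Prime 2) := ⟨Nat.prime_two⟩
  refine Cfsg.Agent.S0028.result 2 (zpowers y) (zpowers x) (Cfsg.pCore 2 C)
    (isPGroup_zpowers_of_isL D.two) ?_ (Cores.pCore_isPGroup 2) ?_ ?_ ?_ ?_
  · rw [Nat.card_zpowers]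
    exact (Nat.prime_two.coprime_iff_not_dvd.2 (D.odd x hx)).symm
  · refine zpowers_le.2 (mem_centralizer_iff.2 fun a ha => ?_)
    obtain ⟨i, rfl⟩ := mem_zpowers_iff.1 ha
    exact ((D.le x hx).zpow_left i).eq
  · rw [normalizer_eq_top]; exact le_top
  · rw [normalizer_eq_top]; exact le_top
  · rintro w ⟨-, hw⟩
    refine mem_centralizer_iff.2 fun a ha => ?_
    obtain ⟨i, rfl⟩ := mem_zpowers_iff.1 ha
    exact ((D.comm x hx w (mem_centralizer_iff.1 hw y (mem_zpowers y)).symm).zpow_left i).eq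

/-- A normal `p`-subgroup of a centralizer of a noncentral `p`-element of `K` lies in `K`. -/
theorem normal_in_cent {p : ℕ} [Fact p.Prime] (hp2 : p ≠ 2) {x : C} (hx : x ∈ K) (hxc : x ∉ center C)
    {V : Subgroup C} (hV : IsPGroup p V) (hVx : V ≤ cent x)
    (hVn : cent x ≤ normalizer (V : Set C)) : V ≤ K := by
  obtain ⟨T, hTK, hTp, hTc⟩ := exists_sylow_in (l := p) K
  have hTx : T ≤ cent x := fun t ht => mem_cent.2 (D.abelian (hTK ht) hx)
  have hsup : IsPGroup p (V ⊔ T : Subgroup C) := hV.to_sup_of_normal_left' hTp (hTx.trans hVn)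
  have hle := card_le_lp hsup (sup_le hVx hTx)
  rw [D.size x hxc (D.odd x hx) p Fact.out hp2, ← hTc] at hle
  calc V ≤ V ⊔ T := le_sup_left
    _ = T := (eq_of_le_of_card_ge (le_sup_right : T ≤ V ⊔ T) hle).symm
    _ ≤ K := hTK

/-- `K` contains a noncentral element for each prime with a noncentral element. -/
theorem exists_noncentral {p : ℕ} [Fact p.Prime] (hp2 : p ≠ 2) {g : C} (hg : IsL p g)
    (hgc : g ∉ center C) : ∃ x ∈ K, IsL p x ∧ x ∉ center C := by
  refine full_of_lt ?_
  rw [← D.size g hgc (odd_of_isL Fact.out hp2 hg) p Fact.out hp2]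
  exact center_lt_lp hg hgc

/-- The odd cores lie in `K`. -/
theorem core_le {p : ℕ} [Fact p.Prime] (hp2 : p ≠ 2) : Cfsg.pCore p C ≤ K := by
  intro w hw
  have hwp : IsL p w := isL_of_mem (Cores.pCore_isPGroup p) hw
  by_cases hwc : w ∈ center C
  · exact D.central_mem hwc (odd_of_isL Fact.out hp2 hwp)
  obtain ⟨x, hx, hxp, hxc⟩ := D.exists_noncentral hp2 hwp hwc
  have hV : Cfsg.pCore p C ⊓ cent x ≤ K := by
    refine D.normal_in_cent hp2 hx hxc ((Cores.pCore_isPGroup p).to_le inf_le_left) inf_le_right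
      fun c hc => mem_normalizer_fintype (S := ((Cfsg.pCore p C ⊓ cent x : Subgroup C) : Set C))
        fun v hv => ?_
    exact ⟨(Cores.pCore_normal p).conj_mem v hv.1 c, (cent x).mul_mem ((cent x).mul_mem hc hv.2) ((cent x).inv_mem hc)⟩
  have h := Cfsg.Agent.S0028.result p (zpowers x) (zpowers y) (Cfsg.pCore p C)
    (isPGroup_zpowers_of_isL hxp) (coprime_zpowers Nat.prime_two Fact.out (Ne.symm hp2) D.two)
    (Cores.pCore_isPGroup p) ?_ (by rw [normalizer_eq_top]; exact le_top)
    (by rw [normalizer_eq_top]; exact le_top) ?_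
  · exact D.mem w (mem_centralizer_iff.1 (h (mem_zpowers y)) w hw) (odd_of_isL Fact.out hp2 hwp)
  · refine zpowers_le.2 (mem_centralizer_iff.2 fun a ha => ?_)
    obtain ⟨i, rfl⟩ := mem_zpowers_iff.1 ha
    exact ((D.le x hx).symm.zpow_left i).eq
  · rintro v ⟨hv, hvx⟩
    have hvK : v ∈ K := hV ⟨hv, mem_cent.2 (mem_centralizer_iff.1 hvx x (mem_zpowers x)).symm⟩
    refine mem_centralizer_iff.2 fun a ha => ?_
    obtain ⟨i, rfl⟩ := mem_zpowers_iff.1 ha
    exact ((D.le v hvK).symm.zpow_left i).eq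

/-- `K` lies in the Fitting subgroup. -/
theorem le_fitting [Group.IsSolvable C] : K ≤ Cfsg.fittingSubgroup C := by
  intro x hx
  refine Solvable.Fitting.centralizer_fitting_le ?_
  have h : Cfsg.fittingSubgroup C ≤ cent x := by
    rw [Components.Fitting.fitting_eq_coreJoin, Components.Fitting.coreJoin]
    refine iSup_le fun p w hw => ?_
    haveI := Fact.mk p.2
    by_cases hp2 : (p : ℕ) = 2
    · rw [hp2] at hw
      exact mem_cent.2 (mem_centralizer_iff.1 (D.two_core hx (mem_zpowers x)) w hw)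
    · exact mem_cent.2 (D.abelian (D.core_le hp2 hw) hx)
  exact mem_centralizer_iff.2 fun w hw => (mem_cent.1 (h hw)).eq

/-- The odd elements of the Fitting subgroup lie in `K`. -/
theorem mem_of_fitting {w : C} (hw : w ∈ Cfsg.fittingSubgroup C) (ho : ¬ 2 ∣ orderOf w) : w ∈ K := by
  refine TwoRegClass.mem_of_primary fun p k hp hpd hk => ?_
  haveI := Fact.mk hp
  haveI hn : Group.IsNilpotent (Cfsg.fittingSubgroup C) := Components.Fitting.fitting_isNilpotent
  have hp2 : p ≠ 2 := fun e => ho (e ▸ hpd)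
  refine D.core_le hp2 ?_
  set F := Cfsg.fittingSubgroup C
  obtain ⟨P⟩ : Nonempty (Sylow p F) := inferInstance
  haveI : (P : Subgroup F).Normal :=
    Sylow.normal_of_normalizerCondition Group.normalizerCondition_of_isNilpotent P
  haveI : (P : Subgroup F).Characteristic := Sylow.characteristic_of_normal P inferInstance
  haveI : F.Normal := Components.Fitting.fitting_normal
  haveI : ((P : Subgroup F).map F.subtype).Normal := ConjAct.normal_of_characteristic_of_normal
  have hwk : (⟨w ^ k, pow_mem hw k⟩ : F) ∈ (P : Subgroup F) := by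
    obtain ⟨i, hi⟩ := hk
    obtain ⟨T, hT⟩ := (GStructB.PElements.isPGroup_zpowers (x := (⟨w ^ k, pow_mem hw k⟩ : F))
      (k := i) (by rw [Subgroup.orderOf_mk]; exact hi)).exists_le_sylow
    haveI := Sylow.unique_of_normal P inferInstance
    rw [Subsingleton.elim P T]
    exact hT (mem_zpowers _)
  exact Cores.le_pCore (P.2.map F.subtype) ⟨_, hwk, rfl⟩

theorem normal [Group.IsSolvable C] : K.Normal :=
  ⟨fun x hx c => D.mem_of_fitting
    (Components.Fitting.fitting_normal.conj_mem x (D.le_fitting hx) c)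
    (by rw [show orderOf (c * x * c⁻¹) = orderOf x from
      orderOf_injective (MulAut.conj c).toMonoidHom (MulAut.conj c).injective x]; exact D.odd x hx)⟩

/-- The `p`-elements centralising a noncentral `p`-element of `K` lie in `K`. -/
theorem mem_of_commute [Group.IsSolvable C] {p : ℕ} [Fact p.Prime] (hp2 : p ≠ 2) {x g : C}
    (hx : x ∈ K) (hxc : x ∉ center C) (hg : IsL p g) (hc : Commute g x) : g ∈ K := by
  haveI := D.normal
  obtain ⟨T, hTK, hTp, hTc⟩ := exists_sylow_in (l := p) K
  have hTx : T ≤ cent x := fun t ht => mem_cent.2 (D.abelian (hTK ht) hx)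
  have hTn : zpowers g ≤ normalizer (T : Set C) := by
    refine zpowers_le.2 (mem_normalizer_fintype (S := (T : Set C)) fun t ht => ?_)
    exact GStructB.TwoSizes.mem_sylow_of_comm (fun a ha b hb => D.abelian ha hb) hTK hTp hTc
      ((D.normal).conj_mem t (hTK ht) g) (isL_conj (isL_of_mem hTp ht) g)
  have hsup := hTp.to_sup_of_normal_left' (isPGroup_zpowers_of_isL hg) hTn
  have hle := card_le_lp hsup (sup_le hTx (zpowers_le.2 (mem_cent.2 hc)))
  rw [D.size x hxc (D.odd x hx) p Fact.out hp2, ← hTc] at hle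
  have h := (eq_of_le_of_card_ge (le_sup_left : T ≤ T ⊔ zpowers g) hle).symm
  exact hTK (h ▸ mem_sup_right (mem_zpowers g))

/-- The odd elements of the centralizer of `K` lie in `K`. -/
theorem mem_of_centralizer [Group.IsSolvable C] {g : C} (hg : g ∈ centralizer (K : Set C))
    (ho : ¬ 2 ∣ orderOf g) : g ∈ K := by
  refine TwoRegClass.mem_of_primary fun p k hp hpd hk => ?_
  haveI := Fact.mk hp
  have hp2 : p ≠ 2 := fun e => ho (e ▸ hpd)
  by_cases hc : g ^ k ∈ center C
  · exact D.central_mem hc (odd_of_isL hp hp2 hk)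
  obtain ⟨x, hx, -, hxc⟩ := D.exists_noncentral hp2 hk hc
  exact D.mem_of_commute hp2 hx hxc hk (mem_centralizer_iff.1 (pow_mem hg k) x hx).symm

/-- `y` lies in the two-core. -/
theorem y_mem_core [Group.IsSolvable C] : y ∈ Cfsg.pCore 2 C := by
  haveI : Fact (Nat.Prime 2) := ⟨Nat.prime_two⟩
  haveI := D.normal
  set M := centralizer (K : Set C) with hM
  haveI : M.Normal := inferInstance
  have hKM : K ≤ M := fun k hk => mem_centralizer_iff.2 fun a ha => (D.abelian ha hk).eq
  obtain ⟨T⟩ : Nonempty (Sylow 2 M) := inferInstance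
  have htop : (T : Subgroup M) ⊔ K.subgroupOf M = ⊤ := by
    rw [← index_eq_one, Nat.eq_one_iff_not_exists_prime_dvd]
    intro p hp
    haveI := Fact.mk hp
    by_cases hp2 : p = 2
    · subst hp2
      exact fun h => T.not_dvd_index (h.trans (index_dvd_of_le le_sup_left))
    · refine TwoRegClass.not_dvd_index_of_forall fun g hg => mem_sup_right ?_
      refine mem_subgroupOf.2 (D.mem_of_centralizer g.2 ?_)
      rw [Subgroup.orderOf_coe]
      exact odd_of_isL hp hp2 hg
  haveI hTn : (T : Subgroup M).Normal := by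
    refine normalizer_eq_top_iff.1 (top_le_iff.1 (htop ▸ sup_le le_normalizer fun k hk => ?_))
    refine mem_normalizer_fintype (S := ((T : Subgroup M) : Set M)) fun t ht => ?_
    have hc : Commute (k : C) (t : C) :=
      mem_centralizer_iff.1 t.2 (k : C) (mem_subgroupOf.1 hk)
    have e : k * t * k⁻¹ = t := Subtype.ext (by
      show (k : C) * t * (k : C)⁻¹ = t
      rw [hc.eq, mul_inv_cancel_right])
    rw [e]; exact ht
  haveI : (T : Subgroup M).Characteristic := Sylow.characteristic_of_normal T inferInstance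
  haveI : ((T : Subgroup M).map M.subtype).Normal := ConjAct.normal_of_characteristic_of_normal
  have hyM : y ∈ M := mem_centralizer_iff.2 fun k hk => (D.le k hk).eq
  obtain ⟨i, hi⟩ := D.two
  obtain ⟨T', hT'⟩ := (GStructB.PElements.isPGroup_zpowers (x := (⟨y, hyM⟩ : M)) (k := i)
    (by rw [Subgroup.orderOf_mk]; exact hi)).exists_le_sylow
  haveI := Sylow.unique_of_normal T inferInstance
  rw [← Subsingleton.elim T T'] at hT'
  exact Cores.le_pCore (T.2.map M.subtype) ⟨_, hT' (mem_zpowers _), rfl⟩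

/-- Every element of odd prime power order lies in `K`. -/
theorem mem_of_isL [Group.IsSolvable C] {p : ℕ} [Fact p.Prime] (hp2 : p ≠ 2) {g : C} (hg : IsL p g) :
    g ∈ K := by
  haveI : Fact (Nat.Prime 2) := ⟨Nat.prime_two⟩
  by_contra hgK
  have hgc : g ∉ center C := fun h => hgK (D.central_mem h (odd_of_isL Fact.out hp2 hg))
  haveI := D.normal
  obtain ⟨R, hRK, hRp, hRc⟩ := exists_sylow_in (l := p) K
  have hRn : ∀ c r, r ∈ R → c * r * c⁻¹ ∈ R := fun c r hr =>
    GStructB.TwoSizes.mem_sylow_of_comm (fun a ha b hb => D.abelian ha hb) hRK hRp hRc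
      (D.normal.conj_mem r (hRK hr) c) (isL_conj (isL_of_mem hRp hr) c)
  -- an element of `R` moved by `g` by a central element
  have hRZ : ¬ R ≤ center C := by
    intro hle
    obtain ⟨x, hx, hxp, hxc⟩ := D.exists_noncentral hp2 hg hgc
    exact hxc (hle (GStructB.TwoSizes.mem_sylow_of_comm (fun a ha b hb => D.abelian ha hb)
      hRK hRp hRc hx hxp))
  have hgn : zpowers g ≤ normalizer (R : Set C) :=
    zpowers_le.2 (mem_normalizer_fintype (S := (R : Set C)) fun r hr => hRn g r hr)
  have hP : IsPGroup p (R ⊔ zpowers g : Subgroup C) :=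
    hRp.to_sup_of_normal_left' (isPGroup_zpowers_of_isL hg) hgn
  obtain ⟨x, hxR, hxc, hxg⟩ := exists_step hP le_sup_left
    (sup_le le_normalizer hgn) (by rw [normalizer_eq_top]; exact le_top) hRZ
  have hz : g * x * g⁻¹ * x⁻¹ ∈ center C := hxg g (mem_sup_right (mem_zpowers g))
  -- the two-elements of `cent g` centralise `x`
  have hfix : ∀ s : C, IsL 2 s → Commute s g → Commute s x := by
    intro s hs hsg
    set d := x⁻¹ * (s * x * s⁻¹) with hd
    have hdR : d ∈ R := mul_mem (inv_mem hxR) (hRn s x hxR)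
    set z := g * x * g⁻¹ * x⁻¹ with hzdef
    have h1 : g * x * g⁻¹ = z * x := by rw [hzdef]; group
    have h2 : g * (s * x * s⁻¹) * g⁻¹ = z * (s * x * s⁻¹) := by
      calc g * (s * x * s⁻¹) * g⁻¹ = s * (g * x * g⁻¹) * s⁻¹ := by
            rw [show g * (s * x * s⁻¹) * g⁻¹ = (g * s) * x * (g * s)⁻¹ by group, ← hsg.eq]
            group
        _ = (s * z) * (x * s⁻¹) := by rw [h1]; group
        _ = z * (s * x * s⁻¹) := by rw [mem_center_iff.1 hz s]; group
    have hdg : g * d * g⁻¹ = d := by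
      rw [hd, show g * (x⁻¹ * (s * x * s⁻¹)) * g⁻¹ =
        (g * x * g⁻¹)⁻¹ * (g * (s * x * s⁻¹) * g⁻¹) by group, h1, h2]
      group
    have hdc : d ∈ center C := by
      by_contra hdc
      exact hgK (D.mem_of_commute hp2 (hRK hdR) hdc hg (mul_inv_eq_iff_eq_mul.1 hdg))
    have hconj : ∀ n : ℕ, s ^ n * x * (s ^ n)⁻¹ = x * d ^ n := by
      intro n
      induction n with
      | zero => simp
      | succ n ih =>
        have hsd : s * d ^ n * s⁻¹ = d ^ n := by
          rw [mem_center_iff.1 (pow_mem hdc n) s, mul_inv_cancel_right]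
        rw [pow_succ' s n, show s * s ^ n * x * (s * s ^ n)⁻¹ = s * (s ^ n * x * (s ^ n)⁻¹) * s⁻¹ by
          group, ih, show s * (x * d ^ n) * s⁻¹ = (s * x * s⁻¹) * (s * d ^ n * s⁻¹) by group, hsd,
          show s * x * s⁻¹ = x * d by rw [hd]; group, mul_assoc, ← pow_succ' d n]
    have h3 := hconj (orderOf s)
    rw [pow_orderOf_eq_one] at h3
    simp only [one_mul, inv_one, mul_one] at h3
    have hd1 : d = 1 := orderOf_eq_one_iff.1 (Nat.eq_one_of_dvd_coprimes
      (coprime_of_isL Fact.out Nat.prime_two hp2 (isL_of_mem hRp hdR) hs) dvd_rfl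
      (orderOf_dvd_of_pow_eq_one (left_eq_mul.1 h3)))
    have h4 : s * x * s⁻¹ = x := by
      have := congrArg (fun w => x * w) hd1
      simpa [hd, mul_assoc] using this
    exact mul_inv_eq_iff_eq_mul.1 h4
  have hxK := hRK hxR
  have hxo := D.odd x hxK
  obtain ⟨T, hTg, hTp, hTc⟩ := exists_sylow_in (l := 2) (cent g)
  have hTx : T ≤ cent x := fun s hs =>
    mem_cent.2 (hfix s (isL_of_mem hTp hs) (mem_cent.1 (hTg hs)))
  have hQx : Cfsg.pCore 2 C ≤ cent x := fun w hw =>
    mem_cent.2 (mem_centralizer_iff.1 (D.two_core hxK (mem_zpowers x)) w hw)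
  have hsup : IsPGroup 2 (Cfsg.pCore 2 C ⊔ T : Subgroup C) :=
    (Cores.pCore_isPGroup 2).to_sup_of_normal_left hTp
  have hle := card_le_lp hsup (sup_le hQx hTx)
  rw [D.sizeTwo x g hxc hxo hgc (odd_of_isL Fact.out hp2 hg), ← hTc] at hle
  have hQT : Cfsg.pCore 2 C ≤ T :=
    (eq_of_le_of_card_ge (le_sup_right : T ≤ Cfsg.pCore 2 C ⊔ T) hle).symm ▸ le_sup_left
  exact hgK (D.mem g (mem_cent.1 (hTg (hQT D.y_mem_core))).symm (odd_of_isL Fact.out hp2 hg))

/-- The conclusion. -/
theorem two_complement [Group.IsSolvable C] : Cfsg.HasNormalPComplement 2 C := by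
  haveI : Fact (Nat.Prime 2) := ⟨Nat.prime_two⟩
  obtain ⟨S⟩ : Nonempty (Sylow 2 C) := inferInstance
  refine ⟨S, K, D.normal, ?_⟩
  have hodd : ¬ 2 ∣ Nat.card K := fun h => by
    obtain ⟨k, hk⟩ := exists_prime_orderOf_dvd_card' 2 h
    exact D.odd k k.2 (by rw [Subgroup.orderOf_coe, hk])
  obtain ⟨n, hn⟩ := S.2.exists_card_eq
  refine isComplement'_of_coprime ?_ ?_
  · have hidx : ∀ p : ℕ, p.Prime → p ∣ K.index → p = 2 := fun p hp hpd => by
      by_contra hp2
      haveI := Fact.mk hp
      exact TwoRegClass.not_dvd_index_of_forall (fun g hg => D.mem_of_isL hp2 hg) hpd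
    have h1 := K.card_mul_index
    rw [← h1]
    congr 1
    refine Nat.dvd_antisymm ?_ ?_
    · rw [hn]
      exact ((Nat.prime_two.coprime_iff_not_dvd.2 hodd).pow_left n).dvd_of_dvd_mul_left
        (by rw [← hn, h1]; exact Subgroup.card_subgroup_dvd_card _)
    · refine ((Nat.coprime_of_dvd fun p hp h2 h3 => ?_) : K.index.Coprime (S : Subgroup C).index)
        |>.dvd_of_dvd_mul_left (by rw [mul_comm, Subgroup.card_mul_index, ← h1]; exact dvd_mul_left _ _)
      exact S.not_dvd_index (hidx p hp h2 ▸ h3)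
  · rw [hn]
    exact (Nat.prime_two.coprime_iff_not_dvd.2 hodd).symm.pow_right n

end Data

end Cfsg.Agent.ConjRankFour
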