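import Cfsg.Agent.ConjRankFour.Basic
import Cfsg.Agent.ConjRankFour.Two
import Cfsg.Agent.S4033
import Cfsg.Agent.S4035
import Cfsg.Agent.S0144
import Cfsg.Agent.S0205
import Cfsg.Agent.SolvStruct.Kazarin
import Cfsg.Agent.Lib.FrobeniusSystem.Basic

/-!
# Involution centralizers when there is at most one larger class size
-/

set_option autoImplicit false
set_option linter.style.haveILetI false
set_option linter.unusedSectionVars false

namespace Cfsg.Agent.ConjRankFour

open Subgroup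
open GroupStructure3.ClassGraph (cs cs_conj cs_eq_one_iff cs_ne_zero cs_pow_dvd centralizer_mul_eq)
open GStructB.TwoSizes (cent IsL mem_cent self_mem_cent lp exists_sylow_in card_le_lp isL_of_mem
  exists_step cent_le_pow)
open ClassRankThree (not_center card_cent_mul_cs)

universe u

section General

variable {C : Type u} [Group C] [Finite C]

/-- A normal odd subgroup holding every odd primary element is a normal two-complement. -/
theorem complement_of_primary (K : Subgroup C) [K.Normal] (hodd : ∀ x ∈ K, ¬ 2 ∣ orderOf x)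
    (hmem : ∀ (p : ℕ) (g : C), p.Prime → p ≠ 2 → IsL p g → g ∈ K) :
    Cfsg.HasNormalPComplement 2 C := by
  haveI : Fact (Nat.Prime 2) := ⟨Nat.prime_two⟩
  obtain ⟨S⟩ : Nonempty (Sylow 2 C) := inferInstance
  refine ⟨S, K, inferInstance, ?_⟩
  have hK2 : ¬ 2 ∣ Nat.card K := fun h => by
    obtain ⟨k, hk⟩ := exists_prime_orderOf_dvd_card' 2 h
    exact hodd k k.2 (by rw [Subgroup.orderOf_coe, hk])
  obtain ⟨n, hn⟩ := S.2.exists_card_eq
  have hidx : ∀ p : ℕ, p.Prime → p ∣ K.index → p = 2 := fun p hp hpd => by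
    by_contra hp2
    haveI := Fact.mk hp
    exact TwoRegClass.not_dvd_index_of_forall (fun g hg => hmem p g hp hp2 hg) hpd
  refine isComplement'_of_coprime ?_ ?_
  · have h1 := K.card_mul_index
    rw [← h1]
    congr 1
    refine Nat.dvd_antisymm ?_ ?_
    · rw [hn]
      exact ((Nat.prime_two.coprime_iff_not_dvd.2 hK2).pow_left n).dvd_of_dvd_mul_left
        (by rw [← hn, h1]; exact Subgroup.card_subgroup_dvd_card _)
    · refine ((Nat.coprime_of_dvd fun p hp h2 h3 => ?_) : K.index.Coprime (S : Subgroup C).index)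
        |>.dvd_of_dvd_mul_left (by rw [mul_comm, Subgroup.card_mul_index, ← h1]; exact dvd_mul_left _ _)
      exact S.not_dvd_index (hidx p hp h2 ▸ h3)
  · rw [hn]
    exact (Nat.prime_two.coprime_iff_not_dvd.2 hK2).symm.pow_right n

/-- A group whose odd elements are all central has a normal two-complement. -/
theorem complement_of_central (h : ∀ g : C, ¬ 2 ∣ orderOf g → g ∈ center C) :
    Cfsg.HasNormalPComplement 2 C := by
  let K : Subgroup C :=
    { carrier := {g | g ∈ center C ∧ ¬ 2 ∣ orderOf g}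
      one_mem' := ⟨one_mem _, by simp⟩
      mul_mem' := fun {a b} ha hb => ⟨mul_mem ha.1 hb.1, fun h2 => by
        have hc : Commute a b := (mem_center_iff.1 ha.1 b).symm
        rcases Nat.prime_two.dvd_mul.1 (h2.trans
          (hc.orderOf_mul_dvd_lcm.trans (Nat.lcm_dvd_mul _ _))) with h | h
        exacts [ha.2 h, hb.2 h]⟩
      inv_mem' := fun {a} ha => ⟨inv_mem ha.1, by rw [orderOf_inv]; exact ha.2⟩ }
  haveI : K.Normal := ⟨fun a ha c => by rw [mem_center_iff.1 ha.1 c, mul_inv_cancel_right]; exact ha⟩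
  refine complement_of_primary K (fun x hx => hx.2) fun p g hp hp2 hg =>
    ⟨h g (odd_of_isL hp hp2 hg), odd_of_isL hp hp2 hg⟩

/-- A group with a normal two-complement is soluble. -/
theorem isSolvable_of_complement (h : Cfsg.HasNormalPComplement 2 C) : Group.IsSolvable C := by
  haveI : Fact (Nat.Prime 2) := ⟨Nat.prime_two⟩
  obtain ⟨P, N, hN, hNP⟩ := h
  haveI := hN
  have hidx : N.index = Nat.card (P : Subgroup C) := hNP.symm.index_eq_card
  have hodd : Odd (Nat.card N) := by
    refine Nat.not_even_iff_odd.1 fun he => ?_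
    obtain ⟨x, hx⟩ := exists_prime_orderOf_dvd_card' 2 he.two_dvd
    obtain ⟨Q, hQ⟩ := (GStructB.PElements.isPGroup_zpowers (x := (x : C)) (k := 1) (p := 2)
      (by rw [Subgroup.orderOf_coe, hx, pow_one])).exists_le_sylow
    obtain ⟨c, hc⟩ := MulAction.exists_smul_eq C Q P
    have hmem : c * x * c⁻¹ ∈ (P : Subgroup C) := by
      rw [← hc, Sylow.coe_subgroup_smul]
      exact ⟨x, hQ (mem_zpowers _), rfl⟩
    have h1 := disjoint_def.1 hNP.disjoint (hN.conj_mem x x.2 c) hmem
    rw [conj_eq_one_iff] at h1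
    rw [← Subgroup.orderOf_coe, h1, orderOf_one] at hx
    exact absurd hx (by norm_num)
  haveI : Group.IsSolvable N := Cfsg.Agent.S0205.result hodd
  have hq : IsPGroup 2 (C ⧸ N) := by
    obtain ⟨n, hn⟩ := P.2.exists_card_eq
    exact IsPGroup.of_card (n := n) (by rw [← Subgroup.index_eq_card, hidx, hn])
  haveI := hq.isNilpotent
  exact (Group.isSolvable_iff_subgroup_quotient N).mpr ⟨inferInstance, inferInstance⟩

/-- An abelian subgroup of prime power index forces solubility. -/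
theorem isSolvable_of_abelian_index {p k : ℕ} (hp : p.Prime) (H : Subgroup C)
    (hH : IsMulCommutative H) (hk : H.index = p ^ k) : Group.IsSolvable C := by
  haveI := Fact.mk hp
  obtain ⟨R, -, hR⟩ := (Set.toFinite {N : Subgroup C | N.Normal ∧ Group.IsSolvable N}).exists_le_maximal
    (show (⊥ : Subgroup C) ∈ {N : Subgroup C | N.Normal ∧ Group.IsSolvable N} from
      ⟨inferInstance, inferInstance⟩)
  haveI := hR.prop.1
  haveI := hR.prop.2
  have hle : H ≤ R := by
    intro x hx
    have hHc : H ≤ centralizer ({x} : Set C) := fun w hw =>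
      mem_centralizer_singleton_iff.2 (congrArg Subtype.val (hH.is_comm.comm ⟨w, hw⟩ ⟨x, hx⟩))
    obtain ⟨i, -, hi⟩ := (Nat.dvd_prime_pow hp).1 (hk ▸ index_dvd_of_le hHc)
    have hs : Group.IsSolvable ↥(normalClosure ({x} : Set C) ⊔ R) :=
      FrobeniusSystem.isSolvable_sup_normal (SolvStruct.Kazarin.isSolvable_normalClosure hp hi) hR.prop.2
    exact hR.le_of_ge ⟨inferInstance, hs⟩ le_sup_right (mem_sup_left (subset_normalClosure rfl))
  obtain ⟨i, -, hi⟩ := (Nat.dvd_prime_pow hp).1 (hk ▸ index_dvd_of_le hle)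
  have hq : IsPGroup p (C ⧸ R) := IsPGroup.of_card (n := i) (by rw [← Subgroup.index_eq_card, hi])
  haveI := hq.isNilpotent
  exact (Group.isSolvable_iff_subgroup_quotient R).mpr ⟨inferInstance, inferInstance⟩

/-- A group with two class sizes of odd elements is soluble. -/
theorem isSolvable_of_two_sizes {e : ℕ}
    (h : ∀ g : C, g ∉ center C → ¬ 2 ∣ orderOf g → (cent g).index = e) : Group.IsSolvable C := by
  classical
  by_cases hall : ∀ g : C, ¬ 2 ∣ orderOf g → g ∈ center C
  · exact isSolvable_of_complement (complement_of_central hall)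
  push Not at hall
  obtain ⟨g, hgo, hgc⟩ := hall
  have he1 : e ≠ 1 := fun he => hgc (cs_eq_one_iff.1 ((h g hgc hgo).trans he))
  have hrange : Set.range (fun x : {x : C // (orderOf x).Coprime 2} =>
      (ConjClasses.mk (x : C)).carrier.ncard) = {1, e} := by
    ext m
    simp only [Set.mem_range, Set.mem_insert_iff, Set.mem_singleton_iff,
      GStructClassType.ncard_carrier]
    constructor
    · rintro ⟨⟨x, hx⟩, rfl⟩
      have hx2 : ¬ 2 ∣ orderOf x := Nat.prime_two.coprime_iff_not_dvd.1 hx.symm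
      by_cases hc : x ∈ center C
      · exact Or.inl (cs_eq_one_iff.2 hc)
      · exact Or.inr (h x hc hx2)
    · rintro (rfl | rfl)
      · exact ⟨⟨1, by simp⟩, cs_eq_one_iff.2 (one_mem _)⟩
      · exact ⟨⟨g, (Nat.prime_two.coprime_iff_not_dvd.2 hgo).symm⟩, h g hgc hgo⟩
  rcases Cfsg.Agent.S4033.result Nat.prime_two (by rw [hrange, Set.ncard_pair (Ne.symm he1)]) with
    ⟨H, hH, -, k, hk⟩ | ⟨q, hq, P, Q, A, -, hA, hcard, hn, -, htop⟩
  · exact isSolvable_of_abelian_index Nat.prime_two H hH hk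
  · haveI := hq
    haveI := hn
    obtain ⟨a, ha⟩ := P.2.exists_card_eq
    obtain ⟨b, hb⟩ := Q.2.exists_card_eq
    have hPQ : Group.IsSolvable ↥((P : Subgroup C) ⊔ (Q : Subgroup C)) :=
      Cfsg.Agent.S0144.result 2 q a b Nat.prime_two hq.out (by rw [hcard, ha, hb])
    haveI : Group.IsSolvable A := Group.isSolvable_of_comm fun x y =>
      Subtype.ext (mem_center_iff.1 (hA y.2) (x : C))
    haveI : A.Normal := ⟨fun a ha' c => by rw [mem_center_iff.1 (hA ha') c, mul_inv_cancel_right]; exact ha'⟩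
    have hs : Group.IsSolvable ↥(((P : Subgroup C) ⊔ (Q : Subgroup C)) ⊔ A) :=
      FrobeniusSystem.isSolvable_sup_normal hPQ inferInstance
    rw [htop] at hs
    haveI := hs
    exact Group.isSolvable_of_surjective (f := (⊤ : Subgroup C).subtype) fun x => ⟨⟨x, mem_top x⟩, rfl⟩

/-- A two-group in which the centralizer of each element is that of an involution power is
abelian. -/
theorem commute_of_powers {T : Subgroup C} (hT : IsPGroup 2 T)
    (h : ∀ y ∈ T, ∀ n : ℕ, orderOf (y ^ n) = 2 → cent (y ^ n) ≤ cent y) :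
    ∀ a ∈ T, ∀ b ∈ T, Commute a b := by
  haveI : Fact (Nat.Prime 2) := ⟨Nat.prime_two⟩
  set Z := T ⊓ centralizer (T : Set C) with hZ
  by_cases hle : T ≤ Z
  · exact fun a ha b hb => mem_centralizer_iff.1 (hle hb).2 a ha
  exfalso
  have hinvol : ∀ y ∈ T, y ≠ 1 → ∃ n : ℕ, orderOf (y ^ n) = 2 := fun y hy hy1 => by
    obtain ⟨k, hk⟩ := isL_of_mem hT hy
    have hk0 : k ≠ 0 := fun h0 => hy1 (orderOf_eq_one_iff.1 (by rw [hk, h0, pow_zero]))
    exact ⟨_, orderOf_pow_orderOf_div (orderOf_pos y).ne' (hk ▸ dvd_pow_self 2 hk0)⟩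
  have hZn : T ≤ normalizer (Z : Set C) := fun c hc => mem_normalizer_fintype (S := (Z : Set C))
    fun z hz => by
      show c * z * c⁻¹ ∈ Z
      rw [(mem_centralizer_iff.1 hz.2 c hc), mul_inv_cancel_right]
      exact hz
  obtain ⟨x₀, hx₀T, hx₀Z, hx₀⟩ := exists_step hT le_rfl le_normalizer hZn hle
  -- a power of `x₀` whose square is in `Z`
  obtain ⟨x, hxT, hxZ, hx2, hxc⟩ : ∃ x ∈ T, x ∉ Z ∧ x * x ∈ Z ∧
      ∀ q ∈ T, q * x * q⁻¹ * x⁻¹ ∈ Z := by
    have hex : ∃ j : ℕ, x₀ ^ 2 ^ j ∈ Z := by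
      obtain ⟨k, hk⟩ := isL_of_mem hT hx₀T
      exact ⟨k, by rw [← hk, pow_orderOf_eq_one]; exact one_mem _⟩
    classical
    have hj := Nat.find_spec hex
    obtain ⟨j, hje⟩ : ∃ j, Nat.find hex = j + 1 := Nat.exists_eq_succ_of_ne_zero fun h0 =>
      hx₀Z (by rw [h0, pow_zero, pow_one] at hj; exact hj)
    refine ⟨x₀ ^ 2 ^ j, pow_mem hx₀T _, Nat.find_min hex (by omega), ?_, fun q hq => ?_⟩
    · rw [← pow_add, ← two_mul, ← pow_succ', ← hje]; exact hj
    · have hc := hx₀ q hq
      set c := q * x₀ * q⁻¹ * x₀⁻¹ with hcdef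
      have hcx : Commute c x₀ := (mem_centralizer_iff.1 hc.2 x₀ hx₀T).symm
      rw [← conj_pow, show q * x₀ * q⁻¹ = c * x₀ by rw [hcdef]; group, hcx.mul_pow,
        mul_inv_cancel_right]
      exact pow_mem hc _
  have hx1 : x ≠ 1 := fun e => hxZ (e ▸ one_mem _)
  -- an element with an involution power in `Z` lies in `Z`
  have hup : ∀ y ∈ T, ∀ n : ℕ, orderOf (y ^ n) = 2 → y ^ n ∈ Z → y ∈ Z := fun y hy n hn hyn =>
    ⟨hy, mem_centralizer_iff.2 fun c hc => (mem_cent.1 (h y hy n hn
      (mem_cent.2 (mem_centralizer_iff.1 hyn.2 c hc)))).eq⟩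
  have hxx : x * x = 1 := by
    by_contra hne
    obtain ⟨n, hn⟩ := hinvol _ (mul_mem hxT hxT) hne
    have e : (x * x) ^ n = x ^ (2 * n) := by rw [← pow_two, pow_mul]
    exact hxZ (hup x hxT (2 * n) (e ▸ hn) (e ▸ pow_mem hx2 n))
  have hinv : ∀ g ∈ T, g * g = 1 → Commute x g := by
    intro g hg hgg
    have hxi : x⁻¹ = x := inv_eq_of_mul_eq_one_right hxx
    have hgi : g⁻¹ = g := inv_eq_of_mul_eq_one_right hgg
    set c := g * x * g⁻¹ * x⁻¹ with hcdef
    have hcZ : c ∈ Z := hxc g hg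
    have hsq : (g * x) ^ 2 = c := by rw [hcdef, hgi, hxi, pow_two]; group
    have hcx : Commute c x := (mem_centralizer_iff.1 hcZ.2 x hxT).symm
    by_contra hne
    have hc1 : c ≠ 1 := fun e => hne (by
      rw [hcdef, mul_inv_eq_one, mul_inv_eq_iff_eq_mul] at e
      exact e.symm)
    have hc2 : c ^ 2 = 1 := by
      have e : g * x * g⁻¹ = c * x := by rw [hcdef]; group
      have h2 := congrArg (· ^ 2) e
      simp only [conj_pow, hcx.mul_pow] at h2
      rw [pow_two x, hxx, mul_one, mul_inv_cancel, mul_one] at h2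
      exact h2.symm
    have hord : orderOf c = 2 := orderOf_eq_prime hc2 hc1
    have hgx : g * x ∈ Z := hup _ (mul_mem hg hxT) 2 (hsq ▸ hord) (hsq ▸ hcZ)
    have h3 : Commute x (g * x) := mem_centralizer_iff.1 hgx.2 x hxT
    exact hne (by
      have := h3.mul_right (Commute.refl x).inv_right
      rwa [mul_inv_cancel_right] at this)
  refine hxZ ⟨hxT, mem_centralizer_iff.2 fun g hg => ?_⟩
  by_cases hg1 : g = 1
  · rw [hg1, one_mul, mul_one]
  obtain ⟨n, hn⟩ := hinvol g hg hg1
  have hc : Commute x (g ^ n) := hinv _ (pow_mem hg n) (by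
    rw [← pow_two, ← hn, pow_orderOf_eq_one])
  exact (mem_cent.1 (h g hg n hn (mem_cent.2 hc))).eq.symm

end General

variable {G : Type u} [Group G] [Finite G]

/-- An element of maximal class size has a normal two-complement in its centralizer. -/
theorem complement_of_max {t : G} (ht : IsL 2 t) (ht1 : t ≠ 1) (hmax : IsMaxVal G (cs t)) :
    Cfsg.HasNormalPComplement 2 (cent t) := by
  refine complement_of_central fun g hg => mem_center_iff.2 fun w => Subtype.ext ?_
  rw [← Subgroup.orderOf_coe] at hg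
  exact (mem_cent.1 (cent_le_of_max ht1 hmax (mem_cent.1 g.2).symm (coprime_of_not_dvd ht hg) w.2)).eq

/-- The index in `cent t` of a noncentral odd element. -/
theorem cs_mul_of_only {t : G} (ht : IsL 2 t) (ht1 : t ≠ 1) {b : ℕ} (hb : IsOnlyMult G (cs t) b)
    {g : cent t} (hgc : g ∉ center (cent t)) (hgo : ¬ 2 ∣ orderOf g) :
    cs (t * g) = b ∧ (cent g).index = b / cs t := by
  rw [← Subgroup.orderOf_coe] at hgo
  have hcop := coprime_of_not_dvd ht hgo
  have h := cs_mul_index g hcop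
  have hne : (cent g).index ≠ 1 := fun e => hgc (cs_eq_one_iff.1 e)
  rcases hb _ (ne_one_of_mul ht1 hcop) (Dvd.intro _ h) with e | e
  · exact absurd (Nat.eq_of_mul_eq_mul_left (Nat.pos_of_ne_zero (cs_ne_zero t))
      (h.trans (e.trans (mul_one _).symm))) hne
  · refine ⟨e, ?_⟩
    rw [← e, ← h, Nat.mul_div_cancel_left _ (Nat.pos_of_ne_zero (cs_ne_zero t))]

/-- With one larger class size the centralizer is soluble. -/
theorem isSolvable_cent {t : G} (ht : IsL 2 t) (ht1 : t ≠ 1) {b : ℕ}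
    (hb : IsOnlyMult G (cs t) b) : Group.IsSolvable (cent t) :=
  isSolvable_of_two_sizes fun _ hgc hgo => (cs_mul_of_only ht ht1 hb hgc hgo).2

/-- With an element of the larger class size there is a normal two-complement. -/
theorem complement_of_only {t y : G} (ht : IsL 2 t) (ht1 : t ≠ 1) {b : ℕ}
    (hb : IsOnlyMult G (cs t) b) (hbmax : IsMaxVal G b) (hy : IsL 2 y) (hy1 : y ≠ 1)
    (hyt : Commute y t) (hyb : cs y = b) : Cfsg.HasNormalPComplement 2 (cent t) := by
  classical
  haveI := isSolvable_cent ht ht1 hb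
  have hcen : ∀ x : G, Commute x y → ¬ 2 ∣ orderOf x → cent y ≤ cent x := fun x hx hxo =>
    cent_le_of_max hy1 (hyb ▸ hbmax) hx.symm (coprime_of_not_dvd hy hxo)
  let y' : cent t := ⟨y, mem_cent.2 hyt⟩
  let K : Subgroup (cent t) :=
    { carrier := {x | Commute (x : G) y ∧ ¬ 2 ∣ orderOf (x : G)}
      one_mem' := ⟨Commute.one_left y, by simp⟩
      mul_mem' := fun {a b} ha hb => ⟨ha.1.mul_left hb.1, fun h2 => by
        have hc : Commute (a : G) (b : G) :=
          (mem_cent.1 (hcen a ha.1 ha.2 (mem_cent.2 hb.1))).symm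
        rcases Nat.prime_two.dvd_mul.1 (h2.trans (show orderOf (((a * b : cent t) : G)) ∣ _ from
          hc.orderOf_mul_dvd_lcm.trans (Nat.lcm_dvd_mul _ _))) with h | h
        exacts [ha.2 h, hb.2 h]⟩
      inv_mem' := fun {a} ha => ⟨ha.1.inv_left, by
        show ¬ 2 ∣ orderOf ((a : G)⁻¹)
        rw [orderOf_inv]; exact ha.2⟩ }
  have hcard : ∀ g : cent t, g ∉ center (cent t) → ¬ 2 ∣ orderOf g →
      Nat.card (cent g) = Nat.card (cent y) := by
    intro g hgc hgo
    obtain ⟨hval, -⟩ := cs_mul_of_only ht ht1 hb hgc hgo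
    have hcop := coprime_of_not_dvd ht (x := (g : G)) (by rwa [Subgroup.orderOf_coe])
    have e : cent (t * (g : G)) = cent t ⊓ cent (g : G) :=
      centralizer_mul_eq (mem_cent.1 g.2).symm hcop
    have h1 := card_cent_mul_cs (t * (g : G))
    rw [hval, ← hyb, ← card_cent_mul_cs y, e, hyb] at h1
    rw [inf_comm] at h1
    rw [cent_subgroupOf, ← inf_subgroupOf_right,
      Nat.card_congr (subgroupOfEquivOfLe inf_le_right).toEquiv]
    exact Nat.eq_of_mul_eq_mul_right (Nat.pos_of_ne_zero (hyb ▸ cs_ne_zero y)) h1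
  have hlp : ∀ p : ℕ, p.Prime → p ≠ 2 → lp p K = lp p (cent y) := by
    intro p hp hp2
    haveI := Fact.mk hp
    refine le_antisymm ?_ ?_
    · obtain ⟨T, hT, hTp, hTc⟩ := exists_sylow_in (l := p) K
      rw [← hTc, ← card_subtype]
      refine card_le_lp (hTp.map _) ?_
      rintro _ ⟨x, hx, rfl⟩
      exact mem_cent.2 (hT hx).1
    · obtain ⟨T, hT, hTp, hTc⟩ := exists_sylow_in (l := p) (cent y)
      have hTt : T ≤ cent t := fun x hx => mem_cent.2 (mem_cent.1 (hcen x (mem_cent.1 (hT hx))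
        (odd_of_isL hp hp2 (isL_of_mem hTp hx)) (mem_cent.2 hyt.symm))).symm
      rw [← hTc, ← Nat.card_congr (subgroupOfEquivOfLe hTt).toEquiv]
      refine card_le_lp (hTp.of_equiv (subgroupOfEquivOfLe hTt).symm) fun x hx => ?_
      exact ⟨mem_cent.1 (hT (mem_subgroupOf.1 hx)),
        odd_of_isL hp hp2 (isL_of_mem hTp (mem_subgroupOf.1 hx))⟩
  refine Data.two_complement (y := y') (K := K)
    { two := by obtain ⟨k, hk⟩ := hy; exact ⟨k, by rw [← hk, ← Subgroup.orderOf_coe]⟩
      odd := fun x hx => by rw [← Subgroup.orderOf_coe]; exact hx.2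
      comm := fun x hx w hw => Subtype.ext
        (mem_cent.1 (hcen x hx.1 hx.2 (mem_cent.2 (congrArg Subtype.val hw.eq)))).eq.symm
      le := fun x hx => Subtype.ext hx.1.eq
      mem := fun g hg hgo => ⟨congrArg Subtype.val hg.eq, by rwa [Subgroup.orderOf_coe]⟩
      size := fun g hgc hgo p hp hp2 => by
        rw [hlp p hp hp2, GStructB.TwoSizes.lp, GStructB.TwoSizes.lp, hcard g hgc hgo]
      sizeTwo := fun g g' hgc hgo hgc' hgo' => by
        rw [GStructB.TwoSizes.lp, GStructB.TwoSizes.lp, hcard g hgc hgo, hcard g' hgc' hgo'] }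

/-- The class size of an element centralised by a Sylow two-subgroup, against the larger class
size of a commuting two-element. -/
theorem dvd_of_two {z y : G} (hz : ¬ 2 ∣ cs z) (hy : IsL 2 y) (hy1 : y ≠ 1)
    (hmax : IsMaxVal G (cs y)) (hzy : Commute z y) : cs z ∣ cs y := by
  set D := cent y ⊓ cent z with hD
  have h1 : cs z ∣ D.relIndex (cent y) * cs y := by
    show cs z ∣ D.relIndex (cent y) * (cent y).index
    rw [relIndex_mul_index inf_le_left]
    exact index_dvd_of_le inf_le_right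
  refine Nat.Coprime.dvd_of_dvd_mul_left ?_ h1
  refine Nat.coprime_of_dvd fun p hp hp1 hp2 => ?_
  haveI := Fact.mk hp
  by_cases hp2' : p = 2
  · exact hz (hp2' ▸ hp1)
  · refine TwoRegClass.not_dvd_index_of_forall (H := D.subgroupOf (cent y)) (fun x hx => ?_) hp2
    have hxo : ¬ 2 ∣ orderOf (x : G) := by
      rw [Subgroup.orderOf_coe]; exact odd_of_isL hp hp2' hx
    have hxz := cent_le_of_max hy1 hmax (mem_cent.1 x.2).symm (coprime_of_not_dvd hy hxo)
      (mem_cent.2 hzy)
    exact mem_subgroupOf.2 ⟨x.2, mem_cent.2 (mem_cent.1 hxz).symm⟩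

/-- An involution of even minimal class size with an abelian Sylow two-subgroup in its
centralizer. -/
theorem complement_of_even {t z : G} (ht : IsL 2 t) (ht1 : t ≠ 1) (hz1 : z ≠ 1) {b : ℕ}
    (hb : IsOnlyMult G (cs t) b) (hvb : cs t ∣ b) (hmin : IsMinVal G (cs t))
    (heven : 2 ∣ cs t) (hz : ¬ 2 ∣ cs z) (hzb : cs z ∣ b) (T : Sylow 2 (cent t))
    (hT : ∀ a ∈ (T : Subgroup (cent t)), ∀ c ∈ (T : Subgroup (cent t)), Commute a c) :
    Cfsg.HasNormalPComplement 2 (cent t) := by
  classical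
  haveI : Fact (Nat.Prime 2) := ⟨Nat.prime_two⟩
  by_cases hall : ∀ g : cent t, ¬ 2 ∣ orderOf g → g ∈ center (cent t)
  · exact complement_of_central hall
  push Not at hall
  obtain ⟨g₀, hg₀o, hg₀c⟩ := hall
  set e := b / cs t with he
  have hidx : ∀ g : cent t, g ∉ center (cent t) → ¬ 2 ∣ orderOf g → (cent g).index = e :=
    fun g h1 h2 => (cs_mul_of_only ht ht1 hb h1 h2).2
  have hbe : b = cs t * e := (Nat.mul_div_cancel' hvb).symm
  -- some odd prime divides `e`
  obtain ⟨p, hp, hp2, hpe⟩ : ∃ p : ℕ, p.Prime ∧ p ≠ 2 ∧ p ∣ e := by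
    by_contra hno
    push Not at hno
    have hcop : (cs z).Coprime e := Nat.coprime_of_dvd fun p hp h1 h2 => hno p hp
      (fun e2 => hz (e2 ▸ h1)) h2
    have hd := hmin z hz1 (hcop.dvd_of_dvd_mul_right (hbe ▸ hzb))
    exact hz (hd ▸ heven)
  haveI := Fact.mk hp
  have hpc : p ∣ Nat.card (cent t) := by
    rw [← hidx g₀ hg₀c hg₀o] at hpe
    exact hpe.trans (index_dvd_card _)
  obtain ⟨P⟩ : Nonempty (Sylow p (cent t)) := inferInstance
  obtain ⟨z₀, hz₀P, hz₀1, hPz, hz₀p⟩ := ClassRankThree.exists_center_sylow hpc P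
  have hz₀L : IsL p (z₀ : cent t) := by
    obtain ⟨k, hk⟩ := IsPGroup.iff_orderOf.1 P.2 ⟨z₀, hz₀P⟩
    exact ⟨k, by rwa [Subgroup.orderOf_mk] at hk⟩
  have hz₀o : ¬ 2 ∣ orderOf z₀ := odd_of_isL hp hp2 hz₀L
  have hz₀c : z₀ ∈ center (cent t) := by
    by_contra hc
    refine hz₀p ?_
    show p ∣ (cent z₀).index
    rw [hidx z₀ hc hz₀o]; exact hpe
  have hz₀' : (z₀ : G) ≠ 1 := fun e1 => hz₀1 (Subtype.ext e1)
  have hle : cent t ≤ cent (z₀ : G) := fun w hw => mem_cent.2
    (congrArg Subtype.val (mem_center_iff.1 hz₀c ⟨w, hw⟩) : w * (z₀ : G) = _)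
  have hcz : cent t = cent (z₀ : G) :=
    cent_eq_of_eq hle (hmin _ hz₀' (index_dvd_of_le hle)).symm
  -- two-elements have index `1` or `e`
  have htwo : ∀ s : cent t, IsL 2 s → s ∉ center (cent t) → (cent s).index = e := by
    intro s hs hsc
    have hcop : (orderOf (z₀ : G)).Coprime (orderOf (s : G)) := by
      rw [Subgroup.orderOf_coe, Subgroup.orderOf_coe]
      exact GStructB.TwoSizes.coprime_of_isL hp Nat.prime_two hp2 hz₀L hs
    have hs' : (s : G) ∈ cent (z₀ : G) := hcz ▸ s.2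
    have hc : Commute (z₀ : G) (s : G) := (mem_cent.1 hs').symm
    have e1 : cent ((z₀ : G) * s) = cent t ⊓ cent (s : G) :=
      (centralizer_mul_eq hc hcop).trans (congrArg (· ⊓ cent (s : G)) hcz.symm)
    have h : cs ((z₀ : G) * s) = cs t * (cent s).index := by
      show (cent ((z₀ : G) * s)).index = (cent t).index * _
      rw [e1, cent_subgroupOf, ← relIndex_mul_index (inf_le_left : cent t ⊓ cent (s : G) ≤ cent t),
        inf_relIndex_left, mul_comm]
      rfl
    rcases hb _ (ne_one_of_mul hz₀' hcop) (Dvd.intro _ h.symm) with e2 | e2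
    · exact absurd (cs_eq_one_iff.1 (Nat.eq_of_mul_eq_mul_left (Nat.pos_of_ne_zero (cs_ne_zero t))
        (h.symm.trans (e2.trans (mul_one _).symm)))) hsc
    · rw [he, ← e2, h, Nat.mul_div_cancel_left _ (Nat.pos_of_ne_zero (cs_ne_zero t))]
  -- abelian Sylow two-subgroup: indices of two-elements are odd
  by_cases hTc : (T : Subgroup (cent t)) ≤ center (cent t)
  · obtain ⟨hn, H, hH, hHo, hi, hs⟩ := Cfsg.Agent.S4035.result (p := 2) (fun x _ h2 => by
      rw [GStructClassType.ncard_carrier] at h2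
      exact T.not_dvd_index (h2.trans (index_dvd_of_le fun s hs =>
        mem_cent.2 (mem_center_iff.1 (hTc hs) x).symm))) T
    haveI := hH
    exact ⟨T, H, hH, isComplement'_of_disjoint_and_mul_eq_univ
      (disjoint_iff.2 (by rw [inf_comm]; exact hi)) (by rw [← normal_mul, sup_comm, hs]; rfl)⟩
  obtain ⟨s, hsT, hsc⟩ := SetLike.not_le_iff_exists.1 hTc
  have hodd : ¬ 2 ∣ e := by
    rw [← htwo s (isL_of_mem T.2 hsT) hsc]
    exact fun h2 => T.not_dvd_index (h2.trans (index_dvd_of_le fun a ha => mem_cent.2 (hT a ha s hsT)))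
  obtain ⟨hn, H, hH, hHo, hi, hs⟩ := Cfsg.Agent.S4035.result (p := 2) (fun x hx h2 => by
    rw [GStructClassType.ncard_carrier] at h2
    by_cases hxc : x ∈ center (cent t)
    · exact Nat.prime_two.not_dvd_one (cs_eq_one_iff.2 hxc ▸ h2 : 2 ∣ 1)
    · exact hodd (hidx x hxc (Nat.prime_two.coprime_iff_not_dvd.1 hx.symm) ▸ h2)) T
  haveI := hH
  exact ⟨T, H, hH, isComplement'_of_disjoint_and_mul_eq_univ
    (disjoint_iff.2 (by rw [inf_comm]; exact hi)) (by rw [← normal_mul, sup_comm, hs]; rfl)⟩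

end Cfsg.Agent.ConjRankFour
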