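import Cfsg.Agent.ConjRankFour.Split
import Cfsg.Agent.ConjRankFour.Final

/-!
# Simple groups with four class sizes
-/

set_option autoImplicit false
set_option linter.style.haveILetI false
set_option linter.unusedSectionVars false

namespace Cfsg.Agent.ConjRankFour

open Subgroup
open GroupStructure3.ClassGraph (cs cs_conj cs_eq_one_iff cs_ne_zero cs_pow_dvd)
open GStructB.TwoSizes (cent IsL mem_cent self_mem_cent isL_of_mem)
open ClassRankThree (not_center two_dvd_card card_cent_mul_cs exists_center_sylow CC AbCent)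

universe u

variable {G : Type u} [Group G] [Finite G] [IsSimpleGroup G]

namespace TwoMin

variable {v₁ v₂ : ℕ} (D : TwoMin G v₁ v₂) (hodd : ¬ 2 ∣ v₁)
include D hodd

/-- The two-elements lie on the side of the odd value. -/
theorem two_side {y : G} (hy : IsL 2 y) (hy1 : y ≠ 1) : v₁ ∣ cs y := by
  refine (D.cover y hy1).resolve_right fun h => ?_
  obtain ⟨k, hk⟩ := hy
  have hd := D.symm.order_dvd h
  rw [hk] at hd
  rcases k with _ | k
  · exact hy1 (orderOf_eq_one_iff.1 (by rw [hk, pow_zero]))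
  · exact hodd ((dvd_pow_self 2 k.succ_ne_zero).trans hd)

/-- If `v₂` has no proper multiple, no involution has class size `v₁`. -/
theorem involution_ne (hfree : ∀ g : G, g ≠ 1 → v₂ ∣ cs g → cs g = v₂) {t : G} (ht : orderOf t = 2) :
    cs t ≠ v₁ := by
  intro hta
  haveI := Fintype.ofFinite G
  have ht1 := ne_one_of_involution ht
  obtain ⟨l, hl, W, hW, hWv⟩ := D.symm.exists_primary₁
  haveI := Fact.mk hl
  have hW1 : W ≠ 1 := D.symm.ne_one₁ hWv
  have hWc : Nat.card (cent W) = v₁ := by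
    have e := card_cent_mul_cs W
    rw [hWv, D.card_eq] at e
    exact Nat.eq_of_mul_eq_mul_right (hWv ▸ Nat.pos_of_ne_zero (cs_ne_zero W)) e
  obtain ⟨-, -, -, hq⟩ := D.exists_two_primes
  obtain ⟨q, hq, hqv, hql⟩ := hq l hl
  haveI := Fact.mk hq
  obtain ⟨h, hh⟩ := exists_prime_orderOf_dvd_card' (G := cent W) q (hWc.symm ▸ hqv)
  rw [← Subgroup.orderOf_coe] at hh
  let Q : Set G := {g : G | g ≠ 1 ∧ cs g = v₂}
  have hcl : ∀ u ∈ Q, ∀ g, Commute g u → g ≠ 1 → g ∈ Q := fun u hu g hc hg =>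
    ⟨hg, hfree g hg (D.symm.closed hg (dvd_of_eq hu.2.symm) hc)⟩
  have hmin : ∀ g ∈ Q, ∀ x ∈ Q, cent g ≤ cent x → cent g = cent x := fun _ hg _ hx hle =>
    cent_eq_of_eq hle (hg.2.trans hx.2.symm)
  have hab : AbCent W := ClassRankThree.abCent_of_coprime (Q := Q) (fun h => h.1 rfl) hcl hmin
    (p := l) (u := W) ⟨hW1, hWv⟩ hW (ClassRankThree.ne_one_of_orderOf_prime hq hh) (mem_cent.1 h.2)
    fun hd => hql ((Nat.prime_dvd_prime_iff_eq hl hq).1 (hh ▸ hd)).symm
  have hcc : CC (cent W) := by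
    refine ⟨fun x y => Subtype.ext (hab x x.2 y y.2).eq, fun g hg hg1 => ?_⟩
    have hgv := (hcl W ⟨hW1, hWv⟩ g (mem_cent.1 hg) hg1).2
    refine (cent_eq_of_eq (fun x hx => mem_cent.2 (hab x hx g hg)) ?_).symm
    rw [hgv, hWv]
  have hKc : Nat.card (cent t) = v₂ := by
    have e := card_cent_mul_cs t
    rw [hta, D.card_eq, mul_comm v₁] at e
    exact Nat.eq_of_mul_eq_mul_right (hta ▸ Nat.pos_of_ne_zero (cs_ne_zero t)) e
  have hiso := ClassRankThree.isolated_of_cc (H := cent W) (K := cent t) (hta.trans hWc.symm)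
    (by rw [hKc, hWc]; exact D.coprime.symm) hcc ht rfl (not_center D.ncomm ht1)
  have hO : Cfsg.oddCore G = ⊥ := ZStar.Consequences.oddCore_eq_bot fun N hN hNodd => by
    rcases hN.eq_bot_or_eq_top with hb | htop
    · exact hb
    · exfalso
      rw [htop, card_top] at hNodd
      exact (Nat.not_even_iff_odd.2 hNodd) (even_iff_two_dvd.2 (two_dvd_card D.ncomm))
  exact not_center D.ncomm ht1 (ZStar.Main.mem_center_of_isolated hO hiso)

/-- Two comparable top values above `v₁`. -/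
theorem reduced_chain {b c : ℕ} (hbv : b ≠ v₁) (hbc : b ∣ c)
    (hb₁ : v₁ ∣ b) (hne : b ≠ c)
    (hwb : ∃ g : G, g ≠ 1 ∧ cs g = b)
    (hside : ∀ g : G, g ≠ 1 → v₁ ∣ cs g → cs g = v₁ ∨ cs g = b ∨ cs g = c)
    (hinv : ∀ t : G, orderOf t = 2 → cs t ≠ v₁) : Reduced G := by
  have htwo : ∀ y : G, IsL 2 y → y ≠ 1 → cs y = b ∨ cs y = c := by
    intro y hy hy1
    refine (hside y hy1 (D.two_side hodd hy hy1)).resolve_left fun h => ?_
    obtain ⟨k, hk⟩ := hy
    have hk0 : k ≠ 0 := fun h0 => hy1 (orderOf_eq_one_iff.1 (by rw [hk, h0, pow_zero]))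
    have ho := orderOf_pow_orderOf_div (orderOf_pos y).ne' (hk ▸ dvd_pow_self 2 hk0)
    exact hinv _ ho (D.min₁ _ (ne_one_of_involution ho) (h ▸ cs_pow_dvd y _))
  have hnv : ∀ g : G, g ≠ 1 → b ∣ cs g → cs g ≠ v₁ := fun g hg hd e => by
    obtain ⟨w, hw, hwb⟩ := hwb
    exact hbv (hwb ▸ D.min₁ w hw (hwb ▸ (e ▸ hd)))
  have honly : IsOnlyMult G b c := fun g hg hd =>
    (hside g hg (hb₁.trans hd)).resolve_left (hnv g hg hd)
  have hcmax : IsMaxVal G c := fun g hg hd => by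
    rcases honly g hg (hbc.trans hd) with e | e
    · exact absurd (Nat.dvd_antisymm hbc (e ▸ hd)) hne
    · exact e
  haveI : Fact (Nat.Prime 2) := ⟨Nat.prime_two⟩
  obtain ⟨S⟩ : Nonempty (Sylow 2 G) := inferInstance
  obtain ⟨z, hzS, hz1, -, hz⟩ := exists_center_sylow (two_dvd_card D.ncomm) S
  have hb2 : ¬ 2 ∣ b := fun h => hz (by
    rcases htwo z (isL_of_mem S.2 hzS) hz1 with e | e
    · exact e ▸ h
    · exact e ▸ h.trans hbc)
  exact reduced_of_two_values hb2 honly hcmax htwo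

/-- The case of two minimal class sizes. -/
theorem reduced : Reduced G := by
  by_cases hA : ∀ g : G, g ≠ 1 → v₁ ∣ cs g → cs g = v₁
  · refine reduced_of_antichain fun t ht g hg hd => ?_
    have e := hA t (ne_one_of_involution ht)
      (D.two_side hodd (isL_of_involution ht) (ne_one_of_involution ht))
    rw [e] at hd ⊢
    exact hA g hg hd
  push Not at hA
  obtain ⟨x, hx, hxd, hxv⟩ := hA
  by_cases hB : ∀ g : G, g ≠ 1 → v₁ ∣ cs g → cs g = v₁ ∨ cs g = cs x
  · refine reduced_of_two_values hodd hB (fun g hg hd => ?_) fun y hy hy1 =>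
      hB y hy1 (D.two_side hodd hy hy1)
    rcases hB g hg (hxd.trans hd) with e | e
    · exact absurd (D.min₁ x hx (e ▸ hd)) hxv
    · exact e
  push Not at hB
  obtain ⟨y, hy, hyd, hyv, hyx⟩ := hB
  have hx₂ : cs x ≠ v₂ := fun e => D.not_both hx hxd (dvd_of_eq e.symm)
  have hy₂ : cs y ≠ v₂ := fun e => D.not_both hy hyd (dvd_of_eq e.symm)
  have hside : ∀ g : G, g ≠ 1 → v₁ ∣ cs g → cs g = v₁ ∨ cs g = cs x ∨ cs g = cs y := by
    intro g hg hd
    by_cases h1 : cs g = v₁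
    · exact Or.inl h1
    rcases D.top_two hg hx hy h1 (fun e => D.not_both hg hd (dvd_of_eq e.symm)) hxv hx₂ hyv hy₂
      with e | e | e
    exacts [Or.inr (Or.inl e), Or.inr (Or.inr e), absurd e.symm hyx]
  have hfree : ∀ g : G, g ≠ 1 → v₂ ∣ cs g → cs g = v₂ := by
    intro g hg hd
    by_contra h2
    have h1 : cs g ≠ v₁ := fun e => D.not_both hg (dvd_of_eq e.symm) hd
    rcases D.top_two hg hx hy h1 h2 hxv hx₂ hyv hy₂ with e | e | e
    exacts [D.not_both hg (e ▸ hxd) hd, D.not_both hg (e ▸ hyd) hd, hyx e.symm]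
  have hinv : ∀ t : G, orderOf t = 2 → cs t ≠ v₁ := fun t ht => D.involution_ne hodd hfree ht
  by_cases hxy : cs x ∣ cs y
  · exact D.reduced_chain hodd hxv hxy hxd (Ne.symm hyx) ⟨x, hx, rfl⟩ hside hinv
  by_cases hyx' : cs y ∣ cs x
  · exact D.reduced_chain hodd hyv hyx' hyd hyx ⟨y, hy, rfl⟩
      (fun g hg hd => (hside g hg hd).imp_right Or.symm) hinv
  refine reduced_of_antichain fun t ht g hg hd => ?_
  have ht1 := ne_one_of_involution ht
  have hts := D.two_side hodd (isL_of_involution ht) ht1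
  rcases hside t ht1 hts with e | e | e
  · exact absurd e (hinv t ht)
  · rcases hside g hg (hts.trans hd) with e' | e' | e'
    · exact absurd (D.min₁ t ht1 (e' ▸ hd)) (hinv t ht)
    · rw [e, e']
    · exact absurd (e' ▸ e ▸ hd) hxy
  · rcases hside g hg (hts.trans hd) with e' | e' | e'
    · exact absurd (D.min₁ t ht1 (e' ▸ hd)) (hinv t ht)
    · exact absurd (e' ▸ e ▸ hd) hyx'
    · rw [e, e']

end TwoMin

/-- The reduction. -/
theorem reduced_of_four (hG : ¬ IsMulCommutative G) (h4 : (vals G).ncard = 4) : Reduced G := by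
  classical
  have hfin : (vals G).Finite := Set.finite_of_ncard_ne_zero (by omega)
  have hmem : ∀ g : G, g ≠ 1 → cs g ∈ vals G := fun g hg => ⟨g, not_center hG hg, rfl⟩
  have hwit : ∀ m ∈ vals G, ∃ g : G, g ≠ 1 ∧ cs g = m := fun m ⟨g, hg, hm⟩ =>
    ⟨g, fun e => hg (e ▸ one_mem _), hm.symm⟩
  set M := {m ∈ vals G | IsMinVal G m} with hM
  have hsub : M ⊆ vals G := fun m hm => hm.1
  have hsum : M.ncard + (vals G \ M).ncard = 4 := by
    rw [← h4, add_comm, Set.ncard_sdiff_add_ncard_of_subset hsub hfin]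
  have hnotM : ∀ {g : G}, g ≠ 1 → cs g ∉ M → cs g ∈ vals G \ M := fun hg h => ⟨hmem _ hg, h⟩
  obtain ⟨g₀, hg₀⟩ := exists_ne (1 : G)
  obtain ⟨h₀, hh₀, -, hh₀m⟩ := exists_min hg₀
  have hM1 : cs h₀ ∈ M := ⟨hmem _ hh₀, hh₀m⟩
  rcases Nat.lt_or_ge M.ncard 2 with h1 | h2
  · -- a single minimal value
    exfalso
    have hone : M = {cs h₀} := Set.eq_singleton_iff_unique_mem.2 ⟨hM1, fun m hm =>
      (Set.ncard_le_one (hfin.subset hsub)).1 (by omega) m hm _ hM1⟩
    obtain ⟨p, hp, hpd⟩ := Nat.exists_prime_and_dvd (show cs h₀ ≠ 1 by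
      have := one_lt_cs hG hh₀; omega)
    haveI := Fact.mk hp
    obtain ⟨P⟩ : Nonempty (Sylow p G) := inferInstance
    obtain ⟨z, -, hz1, -, hz⟩ := exists_center_sylow (hpd.trans (dvd_card h₀)) P
    obtain ⟨h, hh, hhd, hhm⟩ := exists_min hz1
    have he : cs h ∈ M := ⟨hmem _ hh, hhm⟩
    rw [hone, Set.mem_singleton_iff] at he
    exact hz (hpd.trans (he ▸ hhd))
  by_cases hM2 : M.ncard = 2
  · obtain ⟨v₁, v₂, hne, hMe⟩ := Set.ncard_eq_two.1 hM2
    have hv₁ : v₁ ∈ M := hMe ▸ Set.mem_insert _ _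
    have hv₂ : v₂ ∈ M := hMe ▸ Set.mem_insert_of_mem _ rfl
    have D : TwoMin G v₁ v₂ := by
      refine ⟨hG, h4, hwit _ hv₁.1, hwit _ hv₂.1, hne, hv₁.2, hv₂.2, fun g hg => ?_⟩
      obtain ⟨h, hh, hhd, hhm⟩ := exists_min hg
      have he : cs h ∈ M := ⟨hmem _ hh, hhm⟩
      rw [hMe, Set.mem_insert_iff, Set.mem_singleton_iff] at he
      exact he.imp (fun (e : cs h = v₁) => e ▸ hhd) (fun (e : cs h = v₂) => e ▸ hhd)
    by_cases hodd : 2 ∣ v₁
    · exact D.symm.reduced fun h => Nat.prime_two.not_dvd_one (D.coprime ▸ Nat.dvd_gcd hodd h)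
    · exact D.reduced hodd
  by_cases hM4 : M.ncard = 4
  · refine reduced_of_antichain fun t ht g hg hd => ?_
    have he : M = vals G := Set.eq_of_subset_of_ncard_le hsub (by omega) hfin
    have hgm : cs g ∈ M := he ▸ hmem g hg
    exact (hgm.2 t (ne_one_of_involution ht) hd).symm
  obtain ⟨b, hb⟩ := Set.ncard_eq_one.1 (show (vals G \ M).ncard = 1 by
    have := Set.ncard_le_ncard hsub hfin
    omega)
  refine reduced_of_one_top hG (fun g hg hgb => ?_) (hwit b (hb.ge rfl).1)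
  by_contra hnm
  exact hgb (hb.le (hnotM hg fun h => hnm h.2))

/-- The forward direction. -/
theorem forward (hG : ¬ IsMulCommutative G) (h4 : (vals G).ncard = 4) :
    ∃ (F : Type) (_ : Field F) (_ : Fintype F), Odd (Fintype.card F) ∧ 7 ≤ Fintype.card F ∧
      Nonempty (G ≃* Matrix.ProjectiveSpecialLinearGroup (Fin 2) F) :=
  goal_of_reduced hG h4 (reduced_of_four hG h4)

end Cfsg.Agent.ConjRankFour
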