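import Cfsg.Agent.S2508
import Cfsg.Agent.Lib.Classical.Linear
import Mathlib

/-!
# `PSL(2, q)`, `q ≥ 7` odd, has four non-central class sizes
-/

set_option autoImplicit false
set_option linter.style.haveILetI false

namespace Cfsg.Agent.ConjRankFour

universe u

theorem reverse (G : Type u) [Group G] [Finite G]
    (h : ∃ (F : Type) (_ : Field F) (_ : Fintype F), Odd (Fintype.card F) ∧ 7 ≤ Fintype.card F ∧
      Nonempty (G ≃* Matrix.ProjectiveSpecialLinearGroup (Fin 2) F)) :
    IsSimpleGroup G ∧ ¬ IsMulCommutative G ∧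
      Set.ncard {m : ℕ | ∃ x : G, x ∉ Subgroup.center G ∧
        m = (Subgroup.centralizer ({x} : Set G)).index} = 4 := by
  obtain ⟨F, iF, iT, hodd, h7, ⟨e⟩⟩ := h
  classical
  have hodd' : ¬ 2 ∣ Fintype.card F := fun hd => Nat.not_even_iff_odd.2 hodd (even_iff_two_dvd.2 hd)
  haveI hsP := Classical.Linear.isSimpleGroup_PSL_fin (F := F) (le_refl 2) fun _ => by omega
  haveI hsG : IsSimpleGroup G := e.isSimpleGroup
  have hrange := S2508.result hodd' h7
  set q := Fintype.card F with hq
  have hcs : ∀ x : G, (Subgroup.centralizer ({x} : Set G)).index =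
      (Subgroup.centralizer ({e x} : Set (Matrix.ProjectiveSpecialLinearGroup (Fin 2) F))).index := by
    intro x
    rw [show Subgroup.centralizer ({e x} : Set _) =
      (Subgroup.centralizer ({x} : Set G)).map e.toMonoidHom from ?_]
    · exact (Subgroup.index_map_equiv _ e).symm
    · ext y
      rw [Subgroup.mem_map_equiv, Subgroup.mem_centralizer_singleton_iff,
        Subgroup.mem_centralizer_singleton_iff, ← e.injective.eq_iff, map_mul, map_mul,
        MulEquiv.apply_symm_apply]
  have key : ∀ a b c d : ℕ,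
      Set.range (fun g : Matrix.ProjectiveSpecialLinearGroup (Fin 2) F =>
        (Subgroup.centralizer ({g} : Set _)).index) = {1, a, b, c, d} →
      a ∉ ({1} : Set ℕ) ∧ b ≠ 1 ∧ c ≠ 1 ∧ d ≠ 1 →
      a ≠ b ∧ a ≠ c ∧ a ≠ d ∧ b ≠ c ∧ b ≠ d ∧ c ≠ d →
      Set.ncard {m : ℕ | ∃ x : G, x ∉ Subgroup.center G ∧
        m = (Subgroup.centralizer ({x} : Set G)).index} = 4 := by
    intro a b c d hr h1 hne
    rw [Set.mem_singleton_iff] at h1
    have hset : {m : ℕ | ∃ x : G, x ∉ Subgroup.center G ∧
        m = (Subgroup.centralizer ({x} : Set G)).index} = {a, b, c, d} := by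
      ext v
      constructor
      · rintro ⟨x, hx, rfl⟩
        have hx1 : (Subgroup.centralizer ({x} : Set G)).index ≠ 1 := fun h1 => hx <| by
          rwa [Subgroup.index_eq_one, Subgroup.centralizer_eq_top_iff_subset, Set.singleton_subset_iff] at h1
        have hmem := hr.subset ⟨e x, rfl⟩
        simp only [← hcs, Set.mem_insert_iff, Set.mem_singleton_iff] at hmem
        simpa [Set.mem_insert_iff, hx1] using hmem
      · intro hv
        have hv1 : v ≠ 1 := by
          simp only [Set.mem_insert_iff, Set.mem_singleton_iff] at hv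
          omega
        obtain ⟨y, rfl⟩ := hr.symm.subset (Set.mem_insert_of_mem 1 hv)
        refine ⟨e.symm y, fun hy => hv1 ?_, by rw [hcs, MulEquiv.apply_symm_apply]⟩
        show (Subgroup.centralizer ({y} : Set _)).index = 1
        rw [← MulEquiv.apply_symm_apply e y, ← hcs, Subgroup.index_eq_one,
          Subgroup.centralizer_eq_top_iff_subset, Set.singleton_subset_iff]
        exact hy
    rw [hset]
    rw [Set.ncard_insert_of_notMem (by simp [hne.1, hne.2.1, hne.2.2.1]) (Set.toFinite _),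
      Set.ncard_insert_of_notMem (by simp [hne.2.2.2.1, hne.2.2.2.2.1]) (Set.toFinite _),
      Set.ncard_pair hne.2.2.2.2.2]
  obtain ⟨j, hj⟩ := hodd
  have h3 : 3 ≤ j := by omega
  have e1 : (q ^ 2 - 1) / 2 = 2 * j * j + 2 * j := by
    rw [hj, show (2 * j + 1) ^ 2 - 1 = 2 * (2 * j * j + 2 * j) from Nat.sub_eq_of_eq_add (by ring),
      Nat.mul_div_cancel_left _ two_pos]
  have e2 : q * (q + 1) / 2 = 2 * j * j + 3 * j + 1 := by
    rw [hj, show (2 * j + 1) * (2 * j + 1 + 1) = 2 * (2 * j * j + 3 * j + 1) by ring,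
      Nat.mul_div_cancel_left _ two_pos]
  have e3 : q * (q - 1) / 2 = 2 * j * j + j := by
    rw [hj, Nat.add_sub_cancel, show (2 * j + 1) * (2 * j) = 2 * (2 * j * j + j) by ring,
      Nat.mul_div_cancel_left _ two_pos]
  have e4 : q * (q - 1) = 4 * j * j + 2 * j := by rw [hj, Nat.add_sub_cancel]; ring
  have e5 : q * (q + 1) = 4 * j * j + 6 * j + 2 := by rw [hj]; ring
  have hjj : 3 * j ≤ j * j := Nat.mul_le_mul_right j h3
  rw [mul_assoc 2 j j] at e1 e2 e3
  rw [mul_assoc 4 j j] at e4 e5
  have hn4 : Set.ncard {m : ℕ | ∃ x : G, x ∉ Subgroup.center G ∧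
      m = (Subgroup.centralizer ({x} : Set G)).index} = 4 := by
    rcases (show q % 4 = 1 ∨ q % 4 = 3 by omega) with hm | hm
    · have hr := hrange.1 hm
      rw [e1, e2, e4, e5] at hr
      exact key _ _ _ _ hr (by simp only [Set.mem_singleton_iff]; omega) (by omega)
    · have hr := hrange.2 hm
      rw [e1, e3, e4, e5] at hr
      exact key _ _ _ _ hr (by simp only [Set.mem_singleton_iff]; omega) (by omega)
  refine ⟨hsG, fun hc => ?_, hn4⟩
  have hempty : {m : ℕ | ∃ x : G, x ∉ Subgroup.center G ∧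
      m = (Subgroup.centralizer ({x} : Set G)).index} = ∅ :=
    Set.eq_empty_of_forall_notMem fun v ⟨x, hx, _⟩ =>
      hx (Subgroup.mem_center_iff.2 fun g => hc.is_comm.comm g x)
  rw [hempty, Set.ncard_empty] at hn4
  omega

end Cfsg.Agent.ConjRankFour
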