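import Cfsg.Agent.ConjRankFour.Cases
import Cfsg.Agent.Lib.Characters.Burnside

/-!
# Two minimal class sizes: the group order is their product
-/

set_option autoImplicit false
set_option linter.style.haveILetI false
set_option linter.unusedSectionVars false

namespace Cfsg.Agent.ConjRankFour

open Subgroup
open GroupStructure3.ClassGraph (cs cs_conj cs_eq_one_iff cs_ne_zero cs_pow_dvd centralizer_mul_eq)
open GStructB.TwoSizes (cent IsL mem_cent self_mem_cent isL_of_mem coprime_of_isL isL_conj)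
open ClassRankThree (not_center card_cent_mul_cs exists_conj_centralising exists_center_sylow
  mem_of_le_cent ne_one_of_orderOf_prime)

universe u

/-- Exactly two minimal class sizes. -/
structure TwoMin (G : Type u) [Group G] (v₁ v₂ : ℕ) : Prop where
  ncomm : ¬ IsMulCommutative G
  four : (vals G).ncard = 4
  e₁ : ∃ g : G, g ≠ 1 ∧ cs g = v₁
  e₂ : ∃ g : G, g ≠ 1 ∧ cs g = v₂
  ne : v₁ ≠ v₂
  min₁ : IsMinVal G v₁
  min₂ : IsMinVal G v₂
  cover : ∀ g : G, g ≠ 1 → v₁ ∣ cs g ∨ v₂ ∣ cs g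

/-- An element of order prime to the index of a normal subgroup lies in it. -/
theorem mem_of_coprime_index {C : Type*} [Group C] {A : Subgroup C} [A.Normal] {x : C}
    (h : (orderOf x).Coprime A.index) : x ∈ A :=
  (QuotientGroup.eq_one_iff x).1 (orderOf_eq_one_iff.1 (Nat.eq_one_of_dvd_coprimes h
    (orderOf_map_dvd (QuotientGroup.mk' A) x) (A.index_eq_card ▸ orderOf_dvd_natCard _)))

namespace TwoMin

variable {G : Type u} [Group G] [Finite G] {v₁ v₂ : ℕ}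

theorem symm (D : TwoMin G v₁ v₂) : TwoMin G v₂ v₁ :=
  ⟨D.ncomm, D.four, D.e₂, D.e₁, D.ne.symm, D.min₂, D.min₁, fun g hg => (D.cover g hg).symm⟩

variable [IsSimpleGroup G] (D : TwoMin G v₁ v₂)
include D

theorem coprime : v₁.Coprime v₂ := by
  refine Nat.coprime_of_dvd fun p hp h1 h2 => ?_
  haveI := Fact.mk hp
  obtain ⟨g, hg, hg1⟩ := D.e₁
  have hpG : p ∣ Nat.card G := h1.trans (hg1 ▸ index_dvd_card _)
  obtain ⟨P⟩ : Nonempty (Sylow p G) := inferInstance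
  obtain ⟨z, -, hz1, -, hz⟩ := exists_center_sylow hpG P
  rcases D.cover z hz1 with h | h
  exacts [hz (h1.trans h), hz (h2.trans h)]

theorem not_comm {Y W : G} (hY : cs Y = v₁) (hW : cs W = v₂) : ¬ Commute Y W := by
  obtain ⟨g, hg, hg1⟩ := D.e₁
  obtain ⟨g', hg', hg1'⟩ := D.e₂
  have h1 := one_lt_cs D.ncomm hg
  have h2 := one_lt_cs D.ncomm hg'
  refine not_commute D.ncomm (fun e => ?_) (fun e => ?_) (by rw [hY, hW]; exact D.coprime)
  · rw [e, cs_eq_one_iff.2 (one_mem _)] at hY; omega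
  · rw [e, cs_eq_one_iff.2 (one_mem _)] at hW; omega

theorem ne_one₁ {Y : G} (hY : cs Y = v₁) : Y ≠ 1 := fun e => by
  obtain ⟨g, hg, hg1⟩ := D.e₁
  have h1 := one_lt_cs D.ncomm hg
  rw [e, cs_eq_one_iff.2 (one_mem _)] at hY
  omega

/-- There are at most two class sizes which are not minimal. -/
theorem top_two {a b c : G} (ha : a ≠ 1) (hb : b ≠ 1) (hc : c ≠ 1)
    (ha₁ : cs a ≠ v₁) (ha₂ : cs a ≠ v₂) (hb₁ : cs b ≠ v₁) (hb₂ : cs b ≠ v₂)
    (hc₁ : cs c ≠ v₁) (hc₂ : cs c ≠ v₂) : cs a = cs b ∨ cs a = cs c ∨ cs b = cs c := by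
  classical
  by_contra hno
  push Not at hno
  obtain ⟨g, hg, hg1⟩ := D.e₁
  obtain ⟨g', hg', hg1'⟩ := D.e₂
  have hmem : ∀ x : G, x ≠ 1 → cs x ∈ vals G := fun x hx => ⟨x, not_center D.ncomm hx, rfl⟩
  have hsub : ((({v₁, v₂, cs a, cs b, cs c} : Finset ℕ)) : Set ℕ) ⊆ vals G := by
    intro m hm
    simp only [Finset.coe_insert, Finset.coe_singleton, Set.mem_insert_iff,
      Set.mem_singleton_iff] at hm
    rcases hm with rfl | rfl | rfl | rfl | rfl
    exacts [hg1 ▸ hmem g hg, hg1' ▸ hmem g' hg', hmem a ha, hmem b hb, hmem c hc]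
  have h5 : ({v₁, v₂, cs a, cs b, cs c} : Finset ℕ).card = 5 := by
    simp [D.ne, Ne.symm ha₁, Ne.symm ha₂, Ne.symm hb₁, Ne.symm hb₂, Ne.symm hc₁, Ne.symm hc₂,
      hno.1, hno.2.1, hno.2.2]
  have h := Set.ncard_le_ncard hsub (Set.finite_of_ncard_ne_zero (by rw [D.four]; omega))
  rw [Set.ncard_coe_finset, h5, D.four] at h
  omega

/-- A multiple of a top value is a top value. -/
theorem top_of_dvd {u x : G} (hu : u ≠ 1) (hu₁ : cs u ≠ v₁) (hu₂ : cs u ≠ v₂)
    (hd : cs u ∣ cs x) : cs x ≠ v₁ ∧ cs x ≠ v₂ :=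
  ⟨fun e => hu₁ (D.min₁ u hu (e ▸ hd)), fun e => hu₂ (D.min₂ u hu (e ▸ hd))⟩

/-- A primary element of class size `v₁` has order a power of a divisor of `v₂`. -/
theorem prime_dvd {l : ℕ} (hl : l.Prime) {Y : G} (hY : IsL l Y) (hY1 : cs Y = v₁) : l ∣ v₂ := by
  by_contra h
  haveI := Fact.mk hl
  obtain ⟨k, hk⟩ := hY
  obtain ⟨P, hP⟩ := (GStructB.PElements.isPGroup_zpowers hk).exists_le_sylow
  obtain ⟨W, hW, hW2⟩ := D.e₂
  obtain ⟨d, hd⟩ := exists_conj_centralising (g := W) (by rw [hW2]; exact h) P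
  exact D.not_comm hY1 ((cs_conj _ _).trans hW2) (mem_cent.1 (hd (hP (mem_zpowers Y))))

/-- An element of top class size moving `Y` gives the other top class size. -/
theorem cs_mul_top {u Y W : G} (hu : u ≠ 1) (hu₁ : cs u ≠ v₁) (hu₂ : cs u ≠ v₂)
    (hY : cs Y = v₁) (hW : cs W = v₂) (hYu : Commute Y u) (hWu : Commute W u)
    (hcop : (orderOf u).Coprime (orderOf Y)) :
    cs (u * Y) ≠ v₁ ∧ cs (u * Y) ≠ v₂ ∧ cs (u * Y) ≠ cs u := by
  obtain ⟨h1, h2⟩ := D.top_of_dvd hu hu₁ hu₂ (dvd_cs_mul hYu.symm hcop).1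
  refine ⟨h1, h2, fun e => D.not_comm hY hW ?_⟩
  have e1 : cent (u * Y) = cent u ⊓ cent Y := centralizer_mul_eq hYu.symm hcop
  have hle : cent u ≤ cent Y :=
    (cent_eq_of_eq (e1.le.trans inf_le_left) e).ge.trans (e1.le.trans inf_le_right)
  exact (mem_cent.1 (hle (mem_cent.2 hWu))).symm

/-- The key step. -/
theorem key {p l r : ℕ} [hp : Fact p.Prime] (hl : l.Prime) (hr : r.Prime) (hlp : l ≠ p) (hrp : r ≠ p)
    {u Y W : G} (hu : IsL p u) (hu1 : u ≠ 1) (hu₁ : cs u ≠ v₁) (hu₂ : cs u ≠ v₂)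
    (hY : IsL l Y) (hYv : cs Y = v₁) (hW : IsL r W) (hWv : cs W = v₂)
    (hYu : Commute Y u) (hWu : Commute W u) : False := by
  classical
  have hlr : l ≠ r := fun e => hl.not_dvd_one (D.coprime ▸ Nat.dvd_gcd
    (e ▸ D.symm.prime_dvd hr hW hWv) (D.prime_dvd hl hY hYv))
  have hcopY := coprime_of_isL hp.out hl (Ne.symm hlp) hu hY
  obtain ⟨hY₁, hY₂, hYne⟩ := D.cs_mul_top hu1 hu₁ hu₂ hYv hWv hYu hWu hcopY
  set e := cs (u * Y) / cs u with he
  let Y' : cent u := ⟨Y, mem_cent.2 hYu⟩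
  let W' : cent u := ⟨W, mem_cent.2 hWu⟩
  have hidx : ∀ x : cent u, (orderOf x).Coprime p → x ∉ center (cent u) → (cent x).index = e := by
    intro x hx hxc
    have hcop : (orderOf u).Coprime (orderOf (x : G)) := by
      obtain ⟨k, hk⟩ := hu
      rw [hk, Subgroup.orderOf_coe]
      exact hx.symm.pow_left k
    have h := cs_mul_index x hcop
    obtain ⟨hx₁, hx₂⟩ := D.top_of_dvd hu1 hu₁ hu₂ (Dvd.intro _ h)
    have hxne : cs (u * (x : G)) ≠ cs u := fun e' => hxc (cs_eq_one_iff.1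
      (Nat.eq_of_mul_eq_mul_left (Nat.pos_of_ne_zero (cs_ne_zero u))
        (h.trans (e'.trans (mul_one _).symm))))
    rcases D.top_two hu1 (ne_one_of_mul hu1 hcop) (ne_one_of_mul hu1 hcopY) hu₁ hu₂ hx₁ hx₂ hY₁ hY₂
      with e1 | e1 | e1
    · exact absurd e1.symm hxne
    · exact absurd e1.symm hYne
    · rw [he, ← e1, ← h, Nat.mul_div_cancel_left _ (Nat.pos_of_ne_zero (cs_ne_zero u))]
  have hYp : (orderOf Y').Coprime p := by
    obtain ⟨k, hk⟩ := hY
    rw [← Subgroup.orderOf_coe, hk]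
    exact ((Nat.coprime_primes hl hp.out).2 hlp).pow_left k
  have hWp : (orderOf W').Coprime p := by
    obtain ⟨k, hk⟩ := hW
    rw [← Subgroup.orderOf_coe, hk]
    exact ((Nat.coprime_primes hr hp.out).2 hrp).pow_left k
  have hY' : Y' ∉ center (cent u) := fun h =>
    D.not_comm hYv hWv (congrArg Subtype.val (mem_center_iff.1 h W')).symm
  have hW' : W' ∉ center (cent u) := fun h =>
    D.not_comm hYv hWv (congrArg Subtype.val (mem_center_iff.1 h Y'))
  have he1 : e ≠ 1 := fun h => hY' (cs_eq_one_iff.1 ((hidx Y' hYp hY').trans h))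
  have hrange : Set.range (fun x : {x : cent u // (orderOf x).Coprime p} =>
      (ConjClasses.mk (x : cent u)).carrier.ncard) = {1, e} := by
    ext m
    simp only [Set.mem_range, Set.mem_insert_iff, Set.mem_singleton_iff,
      GStructClassType.ncard_carrier]
    constructor
    · rintro ⟨⟨x, hx⟩, rfl⟩
      by_cases hc : x ∈ center (cent u)
      · exact Or.inl (cs_eq_one_iff.2 hc)
      · exact Or.inr (hidx x hx hc)
    · rintro (rfl | rfl)
      · exact ⟨⟨1, by simp⟩, cs_eq_one_iff.2 (one_mem _)⟩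
      · exact ⟨⟨Y', hYp⟩, hidx Y' hYp hY'⟩
  rcases Cfsg.Agent.S4033.result hp.out (by rw [hrange, Set.ncard_pair (Ne.symm he1)]) with
    ⟨H, hH, hHp, k, hk⟩ | ⟨q, hq, P, Q, A, -, hA, hcard, -, -, htop⟩
  · -- the index is a power of `p`
    haveI := Fact.mk hr
    obtain ⟨h, hhH, hhc⟩ : ∃ h ∈ H, h ∉ center (cent u) := by
      by_contra hno
      push Not at hno
      haveI : H.Normal := ⟨fun a ha c => by
        rw [mem_center_iff.1 (hno a ha) c, mul_inv_cancel_right]; exact ha⟩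
      exact hY' (hno _ (mem_of_coprime_index (by rw [hk]; exact hYp.pow_right k)))
    have hho : (orderOf h).Coprime p :=
      (hp.out.coprime_iff_not_dvd.2 fun hd =>
        hHp (hd.trans (Subgroup.orderOf_dvd_natCard _ hhH))).symm
    have hle : H ≤ cent h := fun a ha =>
      mem_cent.2 (congrArg Subtype.val (hH.is_comm.comm ⟨a, ha⟩ ⟨h, hhH⟩))
    obtain ⟨i, -, hi⟩ := (Nat.dvd_prime_pow hp.out).1
      (hidx h hho hhc ▸ hk ▸ index_dvd_of_le hle : e ∣ p ^ k)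
    have hre : ¬ r ∣ cs Y' := by
      show ¬ r ∣ (cent Y').index
      rw [hidx Y' hYp hY', hi]
      exact fun h => hrp ((Nat.prime_dvd_prime_iff_eq hr hp.out).1 (hr.dvd_of_dvd_pow h))
    obtain ⟨j, hj⟩ := hW
    obtain ⟨R, hR⟩ := (GStructB.PElements.isPGroup_zpowers (x := W') (k := j)
      (by rw [← Subgroup.orderOf_coe]; exact hj)).exists_le_sylow
    obtain ⟨d, hd⟩ := exists_conj_centralising (g := Y') hre R
    have hc := congrArg Subtype.val (mem_cent.1 (hd (hR (mem_zpowers W')))).eq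
    exact D.not_comm ((cs_conj (d : G) Y).trans hYv) hWv
      (show Commute ((d : G) * Y * (d : G)⁻¹) W from hc.symm)
  · -- two primes carry the noncentral elements
    haveI := hq
    haveI : A.Normal := ⟨fun a ha c => by
      rw [mem_center_iff.1 (hA ha) c, mul_inv_cancel_right]; exact ha⟩
    have hAi : A.index ∣ Nat.card P * Nat.card Q := by
      rw [← hcard, ← relIndex_top_right A, ← htop, relIndex_sup_right]
      exact relIndex_dvd_card _ _
    have hout : ∀ (s : ℕ) (x : cent u), s.Prime → s ≠ p → s ≠ q → (∃ i, orderOf x = s ^ i) →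
        x ∈ center (cent u) := by
      intro s x hs hsp hsq hx
      refine hA (mem_of_coprime_index (Nat.Coprime.coprime_dvd_right hAi ?_))
      obtain ⟨i, hi⟩ := hx
      obtain ⟨a, ha⟩ := P.2.exists_card_eq
      obtain ⟨b, hb⟩ := Q.2.exists_card_eq
      rw [hi, ha, hb]
      exact (Nat.Coprime.mul_right (((Nat.coprime_primes hs hp.out).2 hsp).pow_right a)
        (((Nat.coprime_primes hs hq.out).2 hsq).pow_right b)).pow_left i
    have hlq : l = q := by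
      by_contra hne
      obtain ⟨i, hi⟩ := hY
      exact hY' (hout l Y' hl hlp hne ⟨i, by rw [← Subgroup.orderOf_coe]; exact hi⟩)
    have hrq : r = q := by
      by_contra hne
      obtain ⟨i, hi⟩ := hW
      exact hW' (hout r W' hr hrp hne ⟨i, by rw [← Subgroup.orderOf_coe]; exact hi⟩)
    exact hlr (hlq.trans hrq.symm)

theorem exists_primary₁ : ∃ l : ℕ, l.Prime ∧ ∃ Y : G, IsL l Y ∧ cs Y = v₁ := by
  obtain ⟨g, hg, hg1⟩ := D.e₁
  obtain ⟨l, hl, x, hx, -, hxv⟩ := exists_primary D.ncomm hg (hg1.symm ▸ D.min₁)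
  exact ⟨l, hl, x, hx, hxv.trans hg1⟩

/-- Every prime divisor of the order divides `v₁` or `v₂`. -/
theorem split {p : ℕ} [hp : Fact p.Prime] (hpG : p ∣ Nat.card G) : p ∣ v₁ ∨ p ∣ v₂ := by
  by_contra hno
  push Not at hno
  obtain ⟨l, hl, Y, hY, hYv⟩ := D.exists_primary₁
  obtain ⟨r, hr, W, hW, hWv⟩ := D.symm.exists_primary₁
  obtain ⟨P⟩ : Nonempty (Sylow p G) := inferInstance
  obtain ⟨d, hd⟩ := exists_conj_centralising (g := Y) (by rw [hYv]; exact hno.1) P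
  obtain ⟨e, he⟩ := exists_conj_centralising (g := W) (by rw [hWv]; exact hno.2) P
  replace hYv : cs (d * Y * d⁻¹) = v₁ := (cs_conj _ _).trans hYv
  replace hWv : cs (e * W * e⁻¹) = v₂ := (cs_conj _ _).trans hWv
  replace hY := isL_conj hY d
  replace hW := isL_conj hW e
  have hlp : l ≠ p := fun h => hno.2 (h ▸ D.prime_dvd hl hY hYv)
  have hrp : r ≠ p := fun h => hno.1 (h ▸ D.symm.prime_dvd hr hW hWv)
  obtain ⟨z, hzP, hz1, -, -⟩ := exists_center_sylow hpG P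
  have hzY : Commute z (d * Y * d⁻¹) := mem_cent.1 (hd hzP)
  have hzW : Commute z (e * W * e⁻¹) := mem_cent.1 (he hzP)
  exact D.key hl hr hlp hrp (isL_of_mem P.2 hzP) hz1 (fun h => D.not_comm h hWv hzW)
    (fun h => D.not_comm hYv h hzY.symm) hY hYv hW hWv hzY.symm hzW.symm

/-- A prime prime to `v₂` does not divide the centralizers of primary elements of class size `v₁`,
when some element of class size `v₂` has order prime to it. -/
theorem not_dvd_of_other {p l r : ℕ} [hp : Fact p.Prime] (hpv : ¬ p ∣ v₂) (hl : l.Prime)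
    (hr : r.Prime) (hrp : r ≠ p) {Y W : G} (hY : IsL l Y) (hYv : cs Y = v₁) (hW : IsL r W)
    (hWv : cs W = v₂) : ¬ p ∣ Nat.card (cent Y) := by
  intro hd
  have hlp : l ≠ p := fun h => hpv (h ▸ D.prime_dvd hl hY hYv)
  obtain ⟨u, hu⟩ := exists_prime_orderOf_dvd_card' (G := cent Y) p hd
  rw [← Subgroup.orderOf_coe] at hu
  obtain ⟨P, hP⟩ := (GStructB.PElements.isPGroup_zpowers (x := (u : G)) (k := 1)
    (by rw [hu, pow_one])).exists_le_sylow
  obtain ⟨d, hd⟩ := exists_conj_centralising (g := W) (by rw [hWv]; exact hpv) P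
  have huW : Commute (u : G) (d * W * d⁻¹) := mem_cent.1 (hd (hP (mem_zpowers _)))
  have huY : Commute (u : G) Y := mem_cent.1 u.2
  have hWv' : cs (d * W * d⁻¹) = v₂ := (cs_conj _ _).trans hWv
  exact D.key hl hr hlp hrp ⟨1, by rw [hu, pow_one]⟩ (ne_one_of_orderOf_prime hp.out hu)
    (fun h => D.not_comm h hWv' huW) (fun h => D.not_comm hYv h huY.symm)
    hY hYv (isL_conj hW d) hWv' huY.symm huW.symm

/-- `v₁` is not a prime power. -/
theorem exists_two_primes : ∃ q : ℕ, q.Prime ∧ q ∣ v₁ ∧ ∀ p : ℕ, p.Prime →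
    ∃ q' : ℕ, q'.Prime ∧ q' ∣ v₁ ∧ q' ≠ p := by
  obtain ⟨g, hg, hg1⟩ := D.e₁
  have h1 := one_lt_cs D.ncomm hg
  obtain ⟨q, hq, hqd⟩ := Nat.exists_prime_and_dvd (show v₁ ≠ 1 by omega)
  refine ⟨q, hq, hqd, fun p hp => ?_⟩
  by_contra hno
  push Not at hno
  obtain ⟨k, hk⟩ : ∃ k, v₁ = p ^ k := ⟨_, Nat.eq_prime_pow_of_unique_prime_dvd (by omega)
    (fun {d} hd hdv => hno d hd hdv)⟩
  exact ClassRankThree.not_prime_card D.ncomm
    (Characters.simple_prime_power_class hp hg (hg1.trans hk))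

/-- A prime prime to `v₂` does not divide the centralizers of primary elements of class size
`v₁`. -/
theorem not_dvd_cent {p l : ℕ} [hp : Fact p.Prime] (hpv : ¬ p ∣ v₂) (hl : l.Prime) {Y : G}
    (hY : IsL l Y) (hYv : cs Y = v₁) : ¬ p ∣ Nat.card (cent Y) := by
  intro hd
  obtain ⟨r, hr, W, hW, hWv⟩ := D.symm.exists_primary₁
  by_cases hall : ∃ (r : ℕ) (W : G), r.Prime ∧ r ≠ p ∧ IsL r W ∧ cs W = v₂
  · obtain ⟨r', W', hr', hrp', hW', hWv'⟩ := hall
    exact D.not_dvd_of_other hpv hl hr' hrp' hY hYv hW' hWv' hd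
  push Not at hall
  have hlp : l ≠ p := fun h => hpv (h ▸ D.prime_dvd hl hY hYv)
  obtain ⟨u, hu⟩ := exists_prime_orderOf_dvd_card' (G := cent Y) p hd
  rw [← Subgroup.orderOf_coe] at hu
  obtain ⟨P, hP⟩ := (GStructB.PElements.isPGroup_zpowers (x := (u : G)) (k := 1)
    (by rw [hu, pow_one])).exists_le_sylow
  obtain ⟨d, hd'⟩ := exists_conj_centralising (g := W) (by rw [hWv]; exact hpv) P
  have huW : Commute (u : G) (d * W * d⁻¹) := mem_cent.1 (hd' (hP (mem_zpowers _)))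
  have huY : Commute (u : G) Y := mem_cent.1 u.2
  have hWv' : cs (d * W * d⁻¹) = v₂ := (cs_conj _ _).trans hWv
  have hu1 : (u : G) ≠ 1 := ne_one_of_orderOf_prime hp.out hu
  have hu₁ : cs (u : G) ≠ v₁ := fun h => D.not_comm h hWv' huW
  have hu₂ : cs (u : G) ≠ v₂ := fun h => D.not_comm hYv h huY.symm
  have hcop : (orderOf (u : G)).Coprime (orderOf Y) :=
    coprime_of_isL hp.out hl (Ne.symm hlp) ⟨1, by rw [hu, pow_one]⟩ hY
  obtain ⟨hY₁, hY₂, hYne⟩ := D.cs_mul_top hu1 hu₁ hu₂ hYv hWv' huY.symm huW.symm hcop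
  have hdvd := dvd_cs_mul huY hcop
  rw [hYv] at hdvd
  -- a prime of `v₁` shows that `v₂` divides the class size of `u`
  obtain ⟨-, -, -, hq⟩ := D.exists_two_primes
  obtain ⟨q, hq, hqv, hqp⟩ := hq p hp.out
  haveI := Fact.mk hq
  obtain ⟨g, hg, hgv⟩ := D.e₁
  obtain ⟨Q⟩ : Nonempty (Sylow q G) := inferInstance
  obtain ⟨z, hzQ, hz1, -, hz⟩ := exists_center_sylow (hqv.trans (hgv ▸ index_dvd_card _)) Q
  have hz₁ : cs z ≠ v₁ := fun h => hz (h ▸ hqv)
  have hz₂ : cs z ≠ v₂ := fun h => hall q z hq hqp (isL_of_mem Q.2 hzQ) h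
  have hzd : v₂ ∣ cs z := (D.cover z hz1).resolve_left fun h => hz (hqv.trans h)
  have hv₂u : v₂ ∣ cs (u : G) := by
    rcases D.top_two hu1 (ne_one_of_mul hu1 hcop) hz1 hu₁ hu₂ hY₁ hY₂ hz₁ hz₂ with e | e | e
    · exact absurd e.symm hYne
    · exact e ▸ hzd
    · exact absurd (hqv.trans (e ▸ hdvd.2)) hz
  -- primes of `v₂` carry elements of class size `v₁`
  have hprim : ∀ q' : ℕ, q'.Prime → q' ∣ v₂ → ∃ Z : G, IsL q' Z ∧ cs Z = v₁ := by
    intro q' hq' hq'v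
    haveI := Fact.mk hq'
    obtain ⟨g', -, hgv'⟩ := D.e₂
    obtain ⟨Q'⟩ : Nonempty (Sylow q' G) := inferInstance
    obtain ⟨z', hzQ', hz1', -, hz'⟩ := exists_center_sylow (hq'v.trans (hgv' ▸ index_dvd_card _)) Q'
    refine ⟨z', isL_of_mem Q'.2 hzQ', by_contra fun h1 => ?_⟩
    have h2 : cs z' ≠ v₂ := fun h => hz' (h ▸ hq'v)
    rcases D.top_two hu1 (ne_one_of_mul hu1 hcop) hz1' hu₁ hu₂ hY₁ hY₂ h1 h2 with e | e | e
    · exact hYne e.symm
    · exact hz' (e ▸ hq'v.trans hv₂u)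
    · exact hz' (e ▸ (hq'v.trans hv₂u).trans hdvd.1)
  haveI := Fact.mk hl
  have hlv := D.prime_dvd hl hY hYv
  obtain ⟨-, -, -, hq'⟩ := D.symm.exists_two_primes
  obtain ⟨q', hq', hq'v, hq'l⟩ := hq' l hl
  obtain ⟨Z, hZ, hZv⟩ := hprim q' hq' hq'v
  have hlv₁ : ¬ l ∣ v₁ := fun h => hl.not_dvd_one (D.coprime ▸ Nat.dvd_gcd h hlv)
  refine D.symm.not_dvd_of_other hlv₁ hr hq' hq'l hW hWv hZ hZv ?_
  obtain ⟨i, hi⟩ := hY
  have hi0 : i ≠ 0 := fun h => D.ne_one₁ hYv (orderOf_eq_one_iff.1 (by rw [hi, h, pow_zero]))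
  have hYord : l ∣ orderOf Y := hi ▸ dvd_pow_self l hi0
  refine (hYord.trans (Subgroup.orderOf_dvd_natCard (cent (u : G)) (mem_cent.2 huY.symm))).trans ?_
  obtain ⟨c, hc⟩ := hv₂u
  have e1 := card_cent_mul_cs (u : G)
  have e2 := card_cent_mul_cs W
  rw [hWv, ← e1, hc] at e2
  have h0 : 0 < v₂ := by
    obtain ⟨g', hg', hgv'⟩ := D.e₂
    exact hgv' ▸ Nat.pos_of_ne_zero (cs_ne_zero g')
  exact ⟨c, Nat.eq_of_mul_eq_mul_right h0 (e2.trans (by ring))⟩

theorem card_eq : Nat.card G = v₁ * v₂ := by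
  obtain ⟨l, hl, Y, hY, hYv⟩ := D.exists_primary₁
  obtain ⟨r, hr, W, hW, hWv⟩ := D.symm.exists_primary₁
  have hco : (Nat.card (cent Y)).Coprime (Nat.card (cent W)) := by
    refine Nat.coprime_of_dvd fun p hp h1 h2 => ?_
    haveI := Fact.mk hp
    rcases D.split (h1.trans (Subgroup.card_subgroup_dvd_card _)) with h | h
    · exact D.not_dvd_cent (fun h' => hp.not_dvd_one (D.coprime ▸ Nat.dvd_gcd h h')) hl hY hYv h1
    · exact D.symm.not_dvd_cent (fun h' => hp.not_dvd_one (D.coprime ▸ Nat.dvd_gcd h' h)) hr hW hWv h2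
  have e1 := card_cent_mul_cs Y
  have e2 := card_cent_mul_cs W
  rw [hYv] at e1
  rw [hWv] at e2
  have h : Nat.card (cent Y) = v₂ := Nat.dvd_antisymm
    (hco.dvd_of_dvd_mul_left ⟨v₁, e2.trans e1.symm⟩)
    (D.coprime.symm.dvd_of_dvd_mul_right ⟨Nat.card (cent W), by rw [e1, mul_comm, e2]⟩)
  rw [← e1, h, mul_comm]

theorem not_both {g : G} (hg : g ≠ 1) (h1 : v₁ ∣ cs g) : ¬ v₂ ∣ cs g := by
  intro h2
  have hd : Nat.card G ∣ cs g := D.card_eq ▸ D.coprime.mul_dvd_of_dvd_of_dvd h1 h2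
  have e := card_cent_mul_cs g
  rw [Nat.dvd_antisymm (dvd_card g) hd] at e
  have h : Nat.card (cent g) = 1 :=
    Nat.eq_of_mul_eq_mul_right (Nat.card_pos (α := G)) (e.trans (one_mul _).symm)
  exact hg (mem_bot.1 ((card_eq_one.1 h) ▸ self_mem_cent g))

theorem card_cent_dvd {g : G} (h1 : v₁ ∣ cs g) : Nat.card (cent g) ∣ v₂ := by
  obtain ⟨c, hc⟩ := h1
  have e := card_cent_mul_cs g
  rw [D.card_eq, hc] at e
  have h0 : 0 < v₁ := by
    obtain ⟨g', hg', hgv⟩ := D.e₁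
    exact hgv ▸ Nat.pos_of_ne_zero (cs_ne_zero g')
  exact ⟨c, Nat.eq_of_mul_eq_mul_left h0 (e.symm.trans (by ring))⟩

theorem order_dvd {g : G} (h1 : v₁ ∣ cs g) : orderOf g ∣ v₂ :=
  (Subgroup.orderOf_dvd_natCard _ (self_mem_cent g)).trans (D.card_cent_dvd h1)

theorem closed {u g : G} (hg : g ≠ 1) (h : v₁ ∣ cs u) (hc : Commute g u) : v₁ ∣ cs g := by
  refine (D.cover g hg).resolve_right fun h2 => hg (orderOf_eq_one_iff.1 ?_)
  exact Nat.eq_one_of_dvd_coprimes D.coprime (D.symm.order_dvd h2)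
    ((Subgroup.orderOf_dvd_natCard _ (mem_cent.2 hc)).trans (D.card_cent_dvd h))

end TwoMin

end Cfsg.Agent.ConjRankFour
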